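import Cfsg.Agent.Lib.AppendixC.Field

/-!
Frames `π i = t ^ i • P` in the configuration of Appendix C, the linear relations between three
frames, and the arrows `ι a * π₁ w = π₁ w' * ι a'` they generate.
-/

set_option autoImplicit false
set_option linter.unusedSectionVars false

namespace CfsgLib.AppendixC

variable {p N : ℕ} {F : Type*} [Field F] {G : Type*} [Group G]

/-- The data of the final configuration. -/
structure Config (p N : ℕ) (F : Type*) [Field F] (G : Type*) [Group G] where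
  ι : F → G
  ι_add : ∀ a b, ι (a + b) = ι a * ι b
  ι_inj : Function.Injective ι
  t : G
  Q : Subgroup G
  comm : ∀ a ∈ Q, ∀ b ∈ Q, a * b = b * a
  coprime : ∀ a ∈ Q, a ^ p = 1 → a = 1
  norm_s : ι 1 ∈ Subgroup.normalizer (Q : Set G)
  t_pow : t ^ p = 1
  ts_mem : ∀ i : ℤ, t ^ i * ι (-(i : F)) ∈ Q
  Φ : ℤ → F → F
  Φ_mem : ∀ j x, x ^ N = 1 → Φ j x ^ N = 1
  Φ_zero : ∀ x, x ^ N = 1 → Φ 0 x = x
  Φ_comp : ∀ i j x, x ^ N = 1 → Φ i (Φ j x) = Φ (i + j) x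
  Φ_mul : ∀ j x y, x ^ N = 1 → y ^ N = 1 → Φ j (x * y) = Φ j x * Φ j y
  Φ_period : ∀ x, x ^ N = 1 → Φ p x = x
  equiv : ∀ x, x ^ N = 1 → ∃ u : G, ∀ (j : ℤ) (v : F),
    u * (t ^ j * ι v * t ^ (-j)) * u⁻¹ = t ^ j * ι (Φ j x * v) * t ^ (-j)

namespace Config

variable (C : Config p N F G)

theorem ι_zero : C.ι 0 = 1 := by
  have h := C.ι_add 0 0
  rwa [add_zero, left_eq_mul] at h

theorem ι_neg (a : F) : C.ι (-a) = (C.ι a)⁻¹ := by
  rw [eq_inv_iff_mul_eq_one, ← C.ι_add, neg_add_cancel, C.ι_zero]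

theorem ι_comm (a b : F) : Commute (C.ι a) (C.ι b) := by
  rw [Commute, SemiconjBy, ← C.ι_add, add_comm, C.ι_add]

/-- `ι` as an additive homomorphism. -/
def ιHom : F →+ Additive G where
  toFun a := Additive.ofMul (C.ι a)
  map_zero' := congrArg Additive.ofMul C.ι_zero
  map_add' a b := congrArg Additive.ofMul (C.ι_add a b)

theorem ι_intMul (n : ℤ) (a : F) : C.ι ((n : F) * a) = C.ι a ^ n := by
  have h := congrArg Additive.toMul (map_zsmul C.ιHom n a)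
  rw [zsmul_eq_mul] at h
  simpa [ιHom] using h

theorem ι_int (n : ℤ) : C.ι (n : F) = C.ι 1 ^ n := by
  rw [← C.ι_intMul, mul_one]

/-- The element `v` of the frame `i`. -/
def π (i : ℤ) (v : F) : G := C.t ^ i * C.ι v * C.t ^ (-i)

theorem π_zero_frame (v : F) : C.π 0 v = C.ι v := by simp [π]

theorem π_add (i : ℤ) (a b : F) : C.π i (a + b) = C.π i a * C.π i b := by
  rw [π, π, π, C.ι_add]; group

theorem π_neg (i : ℤ) (a : F) : C.π i (-a) = (C.π i a)⁻¹ := by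
  rw [π, π, C.ι_neg]; group

theorem π_zero (i : ℤ) : C.π i 0 = 1 := by
  rw [π, C.ι_zero]; group

theorem π_inj (i : ℤ) : Function.Injective (C.π i) := fun a b h =>
  C.ι_inj (mul_left_cancel (mul_right_cancel h))

theorem π_comm (i : ℤ) (a b : F) : Commute (C.π i a) (C.π i b) := by
  rw [Commute, SemiconjBy, ← C.π_add, add_comm, C.π_add]

theorem π_intMul (i n : ℤ) (a : F) : C.π i ((n : F) * a) = C.π i a ^ n := by
  rw [π, π, C.ι_intMul, zpow_neg, conj_zpow]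

theorem π_int (i n : ℤ) : C.π i (n : F) = C.π i 1 ^ n := by rw [← C.π_intMul, mul_one]

theorem π_shift (i j : ℤ) (v : F) : C.t ^ j * C.π i v * C.t ^ (-j) = C.π (i + j) v := by
  rw [π, π]; group

section

variable (d : FieldData p N F)
include d

theorem Φ_one (j : ℤ) : C.Φ j 1 = 1 := by
  have h1 : (1 : F) ^ N = 1 := one_pow N
  have h := C.Φ_mul j 1 1 h1 h1
  rw [one_mul] at h
  exact (mul_eq_left₀ (d.ne_zero (C.Φ_mem j 1 h1))).1 h.symm

theorem Φ_inj (j : ℤ) {x y : F} (hx : x ^ N = 1) (hy : y ^ N = 1) (h : C.Φ j x = C.Φ j y) :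
    x = y := by
  have h' := congrArg (C.Φ (-j)) h
  rwa [C.Φ_comp _ _ _ hx, C.Φ_comp _ _ _ hy, neg_add_cancel, C.Φ_zero _ hx, C.Φ_zero _ hy] at h'

theorem Φ_pow (j : ℤ) {x : F} (hx : x ^ N = 1) (n : ℕ) : C.Φ j (x ^ n) = C.Φ j x ^ n := by
  induction n with
  | zero => rw [pow_zero, pow_zero, C.Φ_one d]
  | succ n ih => rw [pow_succ, pow_succ, C.Φ_mul j _ _ (by rw [pow_right_comm, hx, one_pow]) hx, ih]

theorem Φ_inv (j : ℤ) {x : F} (hx : x ^ N = 1) : C.Φ j x⁻¹ = (C.Φ j x)⁻¹ := by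
  refine eq_inv_of_mul_eq_one_left ?_
  rw [← C.Φ_mul j _ _ (by rw [inv_pow, hx, inv_one]) hx, inv_mul_cancel₀ (d.ne_zero hx), C.Φ_one d]

/-- Relation between three frames at scale one: commutation in `Q`. -/
theorem hexagon_one (a b c : ℤ) :
    C.π b ((c - a : ℤ) : F) * C.π a ((b - c : ℤ) : F) = C.π c ((b - a : ℤ) : F) := by
  set s := C.ι 1
  have hQ1 : C.t ^ (c - b) * s ^ (-(c - b)) ∈ C.Q := by
    have := C.ts_mem (c - b)
    rwa [C.ι_neg, C.ι_int, ← zpow_neg] at this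
  have hQ2 : s ^ (-(a - c)) * C.t ^ (a - c) ∈ C.Q := by
    have h := C.ts_mem (a - c)
    rw [C.ι_neg, C.ι_int, ← zpow_neg] at h
    have hn := zpow_mem C.norm_s (-(a - c))
    have h' := (Subgroup.mem_normalizer_iff.1 hn _).1 h
    have e : s ^ (-(a - c)) * (C.t ^ (a - c) * s ^ (-(a - c))) * (s ^ (-(a - c)))⁻¹ =
        s ^ (-(a - c)) * C.t ^ (a - c) := by group
    exact e ▸ h'
  have hc := C.comm _ hQ1 _ hQ2
  simp only [π, C.ι_int]
  calc C.t ^ b * s ^ (c - a) * C.t ^ (-b) * (C.t ^ a * s ^ (b - c) * C.t ^ (-a))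
      = C.t ^ b * (s ^ (-(a - c)) * C.t ^ (a - c) * (C.t ^ (c - b) * s ^ (-(c - b)))) *
          C.t ^ (-a) := by group
    _ = C.t ^ b * (C.t ^ (c - b) * s ^ (-(c - b)) * (s ^ (-(a - c)) * C.t ^ (a - c))) *
          C.t ^ (-a) := by rw [hc]
    _ = C.t ^ c * s ^ (b - a) * C.t ^ (-c) := by group

theorem hexagon (a b c : ℤ) {ξ : F} (hξ : ξ ^ N = 1) :
    C.π b ((c - a : ℤ) * C.Φ b ξ) * C.π a ((b - c : ℤ) * C.Φ a ξ) =
      C.π c ((b - a : ℤ) * C.Φ c ξ) := by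
  obtain ⟨u, hu⟩ := C.equiv ξ hξ
  have h : ∀ (j : ℤ) (v : F), u * C.π j v * u⁻¹ = C.π j (C.Φ j ξ * v) := hu
  have := congrArg (fun g => u * g * u⁻¹) (C.hexagon_one d a b c)
  rw [conj_mul.symm, h, h, h] at this
  rw [mul_comm _ (C.Φ b ξ), mul_comm _ (C.Φ a ξ), mul_comm _ (C.Φ c ξ)]
  exact this

end

/-- An arrow between two points of the frame `1`, with labels in `P`. -/
def Arr (a a' w w' : F) : Prop := C.ι a * C.π 1 w = C.π 1 w' * C.ι a'

variable {C}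

theorem Arr.symm {a a' w w' : F} (h : C.Arr a a' w w') : C.Arr (-a) (-a') w' w := by
  rw [Arr, C.ι_neg, C.ι_neg, inv_mul_eq_iff_eq_mul, ← mul_assoc, eq_mul_inv_iff_mul_eq]
  exact Eq.symm h

theorem Arr.trans {a a' b b' w w' w'' : F} (h : C.Arr a a' w w') (h' : C.Arr b b' w' w'') :
    C.Arr (a + b) (a' + b') w w'' := by
  unfold Arr at h h' ⊢
  rw [add_comm a, add_comm a', C.ι_add, C.ι_add, mul_assoc, h, ← mul_assoc, h', mul_assoc]

theorem Arr.scale {a a' w w' : F} (h : C.Arr a a' w w') {ξ : F} (hξ : ξ ^ N = 1) :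
    C.Arr (ξ * a) (ξ * a') (C.Φ 1 ξ * w) (C.Φ 1 ξ * w') := by
  obtain ⟨u, hu⟩ := C.equiv ξ hξ
  have h1 : ∀ v : F, u * C.π 1 v * u⁻¹ = C.π 1 (C.Φ 1 ξ * v) := hu 1
  have h0 : ∀ v : F, u * C.ι v * u⁻¹ = C.ι (ξ * v) := fun v => by
    simpa [C.Φ_zero _ hξ] using hu 0 v
  unfold Arr at h ⊢
  have := congrArg (fun g => u * g * u⁻¹) h
  rwa [conj_mul.symm, conj_mul.symm, h0, h0, h1, h1] at this

variable (C)

/-- A uniform family of arrows from every scalar point `K` to `K * c * Φ 1 l`. -/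
def Gamma (c : ℤ) (l E D : F) : Prop :=
  l ^ N = 1 ∧ ∀ K : ℤ, C.Arr (E - K * D) (E + K * D) K (K * c * C.Φ 1 l)

variable {C}

theorem Gamma.comp {c c' : ℤ} {l l' E E' D D' : F} (h : C.Gamma c l E D) (h' : C.Gamma c' l' E' D') :
    C.Gamma (c * c') (l * l') (E + l * E') (D + c * l * D') := by
  refine ⟨by rw [mul_pow, h.1, h'.1, one_mul], fun K => ?_⟩
  have h2 := (h'.2 (K * c)).scale h.1
  push_cast at h2
  have h3 := (h.2 K).trans (by rwa [mul_comm (C.Φ 1 l) ((K : F) * c)] at h2)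
  rw [show E + l * E' - (K : F) * (D + c * l * D') = E - K * D + l * (E' - K * c * D') by ring,
    show E + l * E' + (K : F) * (D + c * l * D') = E + K * D + l * (E' + K * c * D') by ring]
  push_cast
  rw [C.Φ_mul 1 _ _ h.1 h'.1, show (K : F) * ((c : F) * c') * (C.Φ 1 l * C.Φ 1 l') =
    C.Φ 1 l * ((K : F) * c * c' * C.Φ 1 l') by ring]
  exact h3

section

variable (d : FieldData p N F)
include d

/-- The basic family: the relation obtained from `x + z = 1`. -/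
theorem relation {x z : F} (hx : x ^ N = 1) (hz : z ^ N = 1) (hxz : x + z = 1) (k : ℤ) :
    C.Arr ((1 + C.Φ 1 x - C.Φ 1 z) + k * (C.Φ 1 x + C.Φ 1 z - 1))
      ((1 + C.Φ 1 x - C.Φ 1 z) - k * (C.Φ 1 x + C.Φ 1 z - 1))
      (-(k : F) * C.Φ 1 (C.Φ 1 z)) ((k : F) * (C.Φ 1 (C.Φ 1 x) - 1)) := by
  set X := C.Φ 1 x with hX
  set Z := C.Φ 1 z with hZ
  have hXN : X ^ N = 1 := C.Φ_mem _ _ hx
  have hZN : Z ^ N = 1 := C.Φ_mem _ _ hz
  -- the three expansions of `ι (k * x) * ι (k * z) = ι k`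
  have e1 := C.hexagon d 1 (1 + k) 0 hx
  have e2 := C.hexagon d 1 (1 + k) 0 hz
  have e3 := C.hexagon d 1 (1 + k) 0 (one_pow N)
  rw [C.Φ_zero _ hx] at e1
  rw [C.Φ_zero _ hz] at e2
  rw [C.Φ_one d, C.Φ_one d, C.Φ_one d] at e3
  simp only [C.π_zero_frame] at e1 e2 e3
  have hX' : C.Φ (1 + k) x = C.Φ k X := by rw [hX, C.Φ_comp _ _ _ hx, add_comm]
  have hZ' : C.Φ (1 + k) z = C.Φ k Z := by rw [hZ, C.Φ_comp _ _ _ hz, add_comm]
  rw [hX', ← hX] at e1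
  rw [hZ', ← hZ] at e2
  push_cast at e1 e2 e3
  have hsum : C.ι ((1 + (k : F) - 1) * x) * C.ι ((1 + (k : F) - 1) * z) =
      C.ι ((1 + (k : F) - 1) * 1) := by
    rw [← C.ι_add, ← mul_add, hxz]
  rw [← e1, ← e2, ← e3] at hsum
  simp only [mul_one] at hsum
  -- move the outer factors and shift by `t⁻¹`
  have m1 : C.π 1 ((1 + k - 0) * X) * C.π (1 + k) (-1 * C.Φ k Z) =
      C.π (1 + k) (-1 - -1 * C.Φ k X) * C.π 1 ((1 + k - 0) - (1 + k - 0) * Z) := by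
    have ha : C.π (1 + k) (-1 - -1 * C.Φ k X) =
        (C.π (1 + k) (-1 * C.Φ k X))⁻¹ * C.π (1 + k) (-1) := by
      rw [← C.π_neg, ← C.π_add]; congr 1; ring
    have hb : C.π 1 (1 + (k : F) - 0 - (1 + k - 0) * Z) =
        C.π 1 (1 + (k : F) - 0) * (C.π 1 ((1 + k - 0) * Z))⁻¹ := by
      rw [← C.π_neg, ← C.π_add, ← sub_eq_add_neg]
    rw [ha, hb, mul_assoc, eq_inv_mul_iff_mul_eq, ← mul_assoc _ _ (C.π 1 ((1 + k - 0) * Z))⁻¹,
      eq_mul_inv_iff_mul_eq, ← hsum]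
    simp only [mul_assoc]
  have m2 := congrArg (fun g => C.t ^ (-1 : ℤ) * g * C.t ^ (-(-1) : ℤ)) m1
  simp only [sub_zero] at m2
  have hsplit : ∀ a b : G, C.t ^ (-1 : ℤ) * (a * b) * C.t ^ (-(-1) : ℤ) =
      (C.t ^ (-1 : ℤ) * a * C.t ^ (-(-1) : ℤ)) * (C.t ^ (-1 : ℤ) * b * C.t ^ (-(-1) : ℤ)) :=
    fun a b => by group
  rw [hsplit, hsplit] at m2
  simp only [C.π_shift, add_neg_cancel, show (1 : ℤ) + k + -1 = k by ring, C.π_zero_frame] at m2
  -- re-expand the elements of the frame `k` in the frames `0, 1`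
  have f1 : ∀ ξ : F, ξ ^ N = 1 → C.π k (-1 * C.Φ k ξ) =
      C.ι (((k : F) - 1) * ξ) * C.π 1 (-(k : F) * C.Φ 1 ξ) := by
    intro ξ hξ
    have h := C.hexagon d 1 0 k hξ
    rw [C.Φ_zero _ hξ, C.π_zero_frame] at h
    push_cast at h
    simp only [zero_sub] at h
    exact h.symm
  have f2 : C.π k (-1 + C.Φ k X) =
      C.ι ((k : F) - 1) * C.π 1 ((k : F) * (C.Φ 1 X - 1)) * C.ι (-(((k : F) - 1) * X)) := by
    have h1 := f1 1 (one_pow N)
    rw [C.Φ_one d, C.Φ_one d, mul_one, mul_one, mul_one] at h1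
    have hX2 := congrArg Inv.inv (f1 X hXN)
    rw [← C.π_neg, mul_inv_rev, ← C.π_neg, ← C.ι_neg, neg_one_mul, neg_neg] at hX2
    rw [C.π_add, h1, hX2, mul_assoc, ← mul_assoc (C.π 1 (-(k : F))), ← C.π_add, ← mul_assoc]
    congr 3
    ring
  have f3 : C.π k (-C.Φ k Z) = C.ι (((k : F) - 1) * Z) * C.π 1 (-(k : F) * C.Φ 1 Z) := by
    rw [← f1 Z hZN, neg_one_mul]
  rw [show -1 * C.Φ k Z = -C.Φ k Z by ring, f3, show -1 - -1 * C.Φ k X = -1 + C.Φ k X by ring,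
    f2] at m2
  unfold Arr
  rw [show (1 + X - Z) + (k : F) * (X + Z - 1) =
      -((k : F) - 1) + ((1 + k) * X + ((k : F) - 1) * Z) by ring,
    show (1 + X - Z) - (k : F) * (X + Z - 1) =
      -(((k : F) - 1) * X) + ((1 + k) - (1 + k) * Z) by ring,
    C.ι_add, C.ι_add, C.ι_neg, C.ι_add (-(((k : F) - 1) * X)), mul_assoc, mul_assoc,
    inv_mul_eq_iff_eq_mul, ← mul_assoc (C.ι ((k : F) - 1)), ← mul_assoc (_ * _) (C.ι _)]
  simpa only [mul_assoc] using m2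

end

end Config

end CfsgLib.AppendixC
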