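import Mathlib

/-!
Counting solutions of `u + v = c` in a multiplicative subgroup of a finite field by additive
characters.
-/

set_option autoImplicit false

namespace CfsgLib.AppendixC

open Finset ComplexConjugate

variable {F : Type*} [Field F] [Fintype F]

/-- A period of a primitive additive character. -/
noncomputable def period (ψ : AddChar F ℂ) (U : Finset F) (w : F) : ℂ := ∑ u ∈ U, ψ (w * u)

theorem period_mul_mem [DecidableEq F] (ψ : AddChar F ℂ) (U : Finset F) (h0 : (0 : F) ∉ U)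
    (hmul : ∀ x ∈ U, ∀ y ∈ U, x * y ∈ U) (w : F) {x : F} (hx : x ∈ U) :
    period ψ U (w * x) = period ψ U w := by
  have hinj : Function.Injective (fun u : F => x * u) :=
    mul_right_injective₀ fun h => h0 (h ▸ hx)
  have himg : U.image (fun u => x * u) = U :=
    Finset.eq_of_subset_of_card_le (Finset.image_subset_iff.2 fun u hu => hmul x hx u hu)
      (by rw [Finset.card_image_of_injective _ hinj])
  show ∑ u ∈ U, ψ (w * x * u) = ∑ u ∈ U, ψ (w * u)
  conv_rhs => rw [← himg, Finset.sum_image hinj.injOn]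
  exact Finset.sum_congr rfl fun u _ => by rw [mul_assoc]

theorem sum_norm_sq_period {ψ : AddChar F ℂ} (hψ : ψ.IsPrimitive) (U : Finset F) :
    ∑ w : F, ‖period ψ U w‖ ^ 2 = Fintype.card F * U.card := by
  classical
  have h : (∑ w : F, ((‖period ψ U w‖ : ℂ)) ^ 2) = ((Fintype.card F * U.card : ℝ) : ℂ) := by
    calc (∑ w : F, ((‖period ψ U w‖ : ℂ)) ^ 2)
        = ∑ w : F, ∑ u ∈ U, ∑ v ∈ U, ψ (w * (u - v)) := by
          refine Finset.sum_congr rfl fun w _ => ?_
          rw [← Complex.mul_conj', period, map_sum, Finset.sum_mul_sum]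
          refine Finset.sum_congr rfl fun u _ => Finset.sum_congr rfl fun v _ => ?_
          rw [← AddChar.map_neg_eq_conj, ← AddChar.map_add_eq_mul]
          congr 1; ring
      _ = ∑ u ∈ U, ∑ v ∈ U, ∑ w : F, ψ (w * (u - v)) := by
          rw [Finset.sum_comm]; exact Finset.sum_congr rfl fun u _ => Finset.sum_comm
      _ = ∑ u ∈ U, (Fintype.card F : ℂ) := by
          refine Finset.sum_congr rfl fun u hu => ?_
          simp [AddChar.sum_mulShift _ hψ, sub_eq_zero, hu]
      _ = _ := by simp [mul_comm]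
  exact_mod_cast h

theorem norm_period_le [DecidableEq F] {ψ : AddChar F ℂ} (hψ : ψ.IsPrimitive) (U : Finset F)
    (h0 : (0 : F) ∉ U) (h1 : (1 : F) ∈ U) (hmul : ∀ x ∈ U, ∀ y ∈ U, x * y ∈ U) {w : F} (hw : w ≠ 0) :
    ‖period ψ U w‖ ≤ Real.sqrt (Fintype.card F) := by
  have hU : (0 : ℝ) < U.card := by exact_mod_cast Finset.card_pos.2 ⟨1, h1⟩
  have h : (U.card : ℝ) * ‖period ψ U w‖ ^ 2 ≤ Fintype.card F * U.card := by
    rw [← sum_norm_sq_period hψ U]
    calc (U.card : ℝ) * ‖period ψ U w‖ ^ 2 = ∑ x ∈ U, ‖period ψ U (w * x)‖ ^ 2 := by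
          rw [Finset.sum_congr rfl fun x hx => by rw [period_mul_mem ψ U h0 hmul w hx]]
          simp
      _ = ∑ y ∈ U.image (fun x => w * x), ‖period ψ U y‖ ^ 2 :=
          (Finset.sum_image (f := fun y => ‖period ψ U y‖ ^ 2) ((mul_right_injective₀ hw).injOn)).symm
      _ ≤ ∑ y : F, ‖period ψ U y‖ ^ 2 :=
          Finset.sum_le_sum_of_subset_of_nonneg (Finset.subset_univ _) fun _ _ _ => sq_nonneg _
  refine Real.le_sqrt_of_sq_le ?_
  nlinarith

/-- Lower bound for the number of `u ∈ U` with `c - u ∈ U`. -/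
theorem card_sq_le_mul_card_add [DecidableEq F] (U : Finset F)
    (h0 : (0 : F) ∉ U) (h1 : (1 : F) ∈ U) (hmul : ∀ x ∈ U, ∀ y ∈ U, x * y ∈ U) {c : F} (hc : c ≠ 0) :
    (U.card : ℝ) ^ 2 ≤ (U.filter fun u => c - u ∈ U).card * Fintype.card F +
      Fintype.card F * Real.sqrt (Fintype.card F) := by
  obtain ⟨ψ, hψ⟩ : ∃ ψ : AddChar F ℂ, ψ.IsPrimitive := by
    obtain ⟨ψ, hψ⟩ := AddChar.exists_apply_ne_zero.2 (one_ne_zero (α := F))
    exact ⟨ψ, AddChar.IsPrimitive.of_ne_one (AddChar.ne_one_iff.2 ⟨1, hψ⟩)⟩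
  set n := (U.filter fun u => c - u ∈ U).card
  have hsum : ((n : ℂ) * Fintype.card F) = ∑ w : F, period ψ U w ^ 2 * ψ (-(c * w)) := by
    calc ((n : ℂ) * Fintype.card F)
        = ∑ u ∈ U, if c - u ∈ U then (Fintype.card F : ℂ) else 0 := by
          rw [← Finset.sum_filter]; simp [n]
      _ = ∑ u ∈ U, ∑ v ∈ U, ∑ w : F, ψ (w * (u + v - c)) := by
          refine Finset.sum_congr rfl fun u _ => ?_
          have e : ∀ v : F, (u + v - c = 0) ↔ (v = c - u) := fun v => by
            constructor <;> intro h <;> linear_combination h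
          simp [AddChar.sum_mulShift _ hψ, e]
      _ = ∑ w : F, ∑ u ∈ U, ∑ v ∈ U, ψ (w * (u + v - c)) := by
          rw [Finset.sum_comm (s := (Finset.univ : Finset F))]
          exact Finset.sum_congr rfl fun u _ => Finset.sum_comm
      _ = _ := by
          refine Finset.sum_congr rfl fun w _ => ?_
          rw [pow_two, period, Finset.sum_mul_sum, Finset.sum_mul]
          refine Finset.sum_congr rfl fun u _ => ?_
          rw [Finset.sum_mul]
          refine Finset.sum_congr rfl fun v _ => ?_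
          rw [← AddChar.map_add_eq_mul, ← AddChar.map_add_eq_mul]
          congr 1; ring
  set S : Finset F := Finset.univ.erase 0
  set R : ℂ := ∑ w ∈ S, period ψ U w ^ 2 * ψ (-(c * w)) with hR
  have hsplit : ((n : ℂ) * Fintype.card F) = (U.card : ℂ) ^ 2 + R := by
    rw [hsum, ← Finset.add_sum_erase _ _ (Finset.mem_univ (0 : F))]
    simp [period, hR, S]
  have hUR : (U.card : ℂ) * R = ∑ w ∈ S, period ψ U w ^ 2 * period ψ U (-(c * w)) := by
    calc (U.card : ℂ) * R = ∑ x ∈ U, ∑ w ∈ S, period ψ U (w * x) ^ 2 * ψ (-(c * (w * x))) := by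
          rw [← nsmul_eq_mul, ← Finset.sum_const]
          refine Finset.sum_congr rfl fun x hx => ?_
          have hx0 : x ≠ 0 := fun h => h0 (h ▸ hx)
          rw [hR]
          symm
          refine Finset.sum_nbij' (fun w => w * x) (fun w => w / x) ?_ ?_ ?_ ?_ ?_
          · intro w hw; simp [S] at hw ⊢; exact ⟨hw, hx0⟩
          · intro w hw; simp [S] at hw ⊢; exact ⟨hw, hx0⟩
          · intro w _; field_simp
          · intro w _; field_simp
          · intro w _; rfl
      _ = ∑ w ∈ S, ∑ x ∈ U, period ψ U (w * x) ^ 2 * ψ (-(c * (w * x))) := Finset.sum_comm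
      _ = _ := by
          refine Finset.sum_congr rfl fun w _ => ?_
          conv_rhs => rw [period.eq_1 ψ U (-(c * w)), Finset.mul_sum]
          refine Finset.sum_congr rfl fun x hx => ?_
          rw [period_mul_mem ψ U h0 hmul w hx]
          congr 2; ring
  have hU : (0 : ℝ) < U.card := by exact_mod_cast Finset.card_pos.2 ⟨1, h1⟩
  have hbound : (U.card : ℝ) * ‖R‖ ≤ Real.sqrt (Fintype.card F) * (Fintype.card F * U.card) := by
    calc (U.card : ℝ) * ‖R‖ = ‖(U.card : ℂ) * R‖ := by rw [norm_mul, Complex.norm_natCast]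
      _ ≤ ∑ w ∈ S, ‖period ψ U w ^ 2 * period ψ U (-(c * w))‖ := by rw [hUR]; exact norm_sum_le _ _
      _ ≤ ∑ w ∈ S, Real.sqrt (Fintype.card F) * ‖period ψ U w‖ ^ 2 := by
          refine Finset.sum_le_sum fun w hw => ?_
          rw [norm_mul, norm_pow, mul_comm]
          refine mul_le_mul_of_nonneg_right (norm_period_le hψ U h0 h1 hmul ?_) (sq_nonneg _)
          exact neg_ne_zero.2 (mul_ne_zero hc (Finset.ne_of_mem_erase hw))
      _ ≤ _ := by
          rw [← Finset.mul_sum, ← sum_norm_sq_period hψ U]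
          exact mul_le_mul_of_nonneg_left (Finset.sum_le_sum_of_subset_of_nonneg
            (Finset.subset_univ _) fun _ _ _ => sq_nonneg _) (Real.sqrt_nonneg _)
  have hRle : ‖R‖ ≤ Fintype.card F * Real.sqrt (Fintype.card F) := by nlinarith
  have hre := congrArg Complex.re hsplit
  simp [pow_two] at hre
  have := Complex.abs_re_le_norm R
  rw [abs_le] at this
  nlinarith

end CfsgLib.AppendixC
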