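import Cfsg.Agent.S1471
import Cfsg.Agent.Lib.AppendixC.Count

/-!
The arithmetic of a field with `p ^ q` elements used in Appendix C: `N = (p ^ q - 1) / (p - 1)` is
prime to `p - 1`, and the norm-one group is `{x | x ^ N = 1}`.
-/

set_option autoImplicit false
set_option linter.unusedSectionVars false

open Polynomial

namespace CfsgLib.AppendixC

/-- What the final argument needs to know about the field. -/
structure FieldData (p N : ℕ) (F : Type*) [Field F] : Prop where
  prime : p.Prime
  odd : p ≠ 2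
  char : CharP F p
  pos : 0 < N
  ne_one : N ≠ 1
  coprime : N.Coprime (p - 1)
  pow_eq : ∀ f : F, f ≠ 0 → f ^ (N * (p - 1)) = 1
  int_of_pow : ∀ f : F, f ^ p = f → ∃ n : ℤ, (n : F) = f
  span : ∀ (B : AddSubgroup F) (l b : F), l ^ p ≠ l → b ∈ B → b ≠ 0 → (∀ a ∈ B, l * a ∈ B) →
    ∀ a, a ∈ B

namespace FieldData

variable {p N : ℕ} {F : Type*} [Field F] (d : FieldData p N F)
include d

theorem even_sub : 2 ∣ p - 1 := by
  rcases d.prime.odd_of_ne_two d.odd with ⟨k, hk⟩; exact ⟨k, by omega⟩

theorem odd_N : ¬ 2 ∣ N := fun h => by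
  have := Nat.dvd_gcd h d.even_sub
  rw [d.coprime.gcd_eq_one] at this
  omega

theorem two_ne : (2 : F) ≠ 0 := by
  have := d.char
  intro h
  have h2 : ((2 : ℕ) : F) = 0 := by exact_mod_cast h
  rw [CharP.cast_eq_zero_iff F p] at h2
  exact d.odd ((Nat.prime_dvd_prime_iff_eq d.prime Nat.prime_two).1 h2)

theorem int_pow (n : ℤ) : (n : F) ^ p = n := by
  have := d.char
  have := Fact.mk d.prime
  rw [← map_intCast (ZMod.castHom (dvd_refl p) F) n, ← map_pow, ZMod.pow_card]

theorem ne_zero {x : F} (hx : x ^ N = 1) : x ≠ 0 := by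
  rintro rfl
  rw [zero_pow d.pos.ne'] at hx
  exact zero_ne_one hx

/-- The norm-one group meets the prime field trivially. -/
theorem eq_one_of_pow {x : F} (hx : x ^ N = 1) (hp : x ^ p = x) : x = 1 := by
  have h : x ^ (p - 1) = 1 := by
    refine mul_right_cancel₀ (d.ne_zero hx) ?_
    rw [one_mul, ← pow_succ, Nat.sub_add_cancel d.prime.one_le, hp]
  have := (pow_gcd_eq_one (m := N) (n := p - 1) (a := x)).2 ⟨hx, h⟩
  rwa [d.coprime.gcd_eq_one, pow_one] at this

theorem eq_one_of_int {x : F} (hx : x ^ N = 1) {n : ℤ} (h : x = n) : x = 1 :=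
  d.eq_one_of_pow hx (by rw [h]; exact d.int_pow n)

theorem exists_decomp {f : F} (hf : f ≠ 0) :
    ∃ (c : ℤ) (θ : F), (c : F) ≠ 0 ∧ θ ^ N = 1 ∧ f = c * θ := by
  have h := Nat.gcd_eq_gcd_ab N (p - 1)
  rw [d.coprime.gcd_eq_one] at h
  set A := Nat.gcdA N (p - 1)
  set B := Nat.gcdB N (p - 1)
  have h1 : f ^ (((N * (p - 1) : ℕ)) : ℤ) = 1 := by rw [zpow_natCast]; exact d.pow_eq f hf
  push_cast at h1 h
  obtain ⟨c, hc⟩ := d.int_of_pow (f ^ ((N : ℤ) * A)) (by
    conv_rhs => rw [← mul_one (f ^ ((N : ℤ) * A)), ← one_zpow A, ← h1, ← zpow_mul, ← zpow_add₀ hf]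
    rw [← zpow_natCast, ← zpow_mul]
    congr 1
    have : ((p - 1 : ℕ) : ℤ) = (p : ℤ) - 1 := by rw [Nat.cast_sub d.prime.one_le]; simp
    push_cast
    rw [this]; ring)
  refine ⟨c, f ^ (((p - 1 : ℕ) : ℤ) * B), ?_, ?_, ?_⟩
  · rw [hc]; exact zpow_ne_zero _ hf
  · rw [← zpow_natCast, ← zpow_mul, mul_comm _ B, mul_assoc, mul_comm, mul_comm _ (N : ℤ), zpow_mul,
      h1, one_zpow]
  · rw [hc, ← zpow_add₀ hf, ← h, zpow_one]

end FieldData

theorem fieldData (p q : ℕ) (hp : p.Prime) (hp2 : p ≠ 2) (hq : q.Prime) (F : Type*) [Field F]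
    [Fintype F] (hF : Fintype.card F = p ^ q)
    (hA : Nat.Coprime ((p ^ q - 1) / (p - 1)) (p - 1)) :
    FieldData p ((p ^ q - 1) / (p - 1)) F := by
  have := Fact.mk hp
  have hchar : CharP F p := charP_of_card_eq_prime_pow hF
  have hdvd : p - 1 ∣ p ^ q - 1 := by simpa using Nat.sub_dvd_pow_sub_pow p 1 q
  have h1 := hp.one_lt
  have hpq : p < p ^ q := by
    calc p = p ^ 1 := (pow_one p).symm
      _ < p ^ q := Nat.pow_lt_pow_right h1 hq.one_lt
  refine ⟨hp, hp2, hchar, Nat.div_pos (by omega) (by omega), ?_, hA, ?_, ?_, ?_⟩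
  · intro h
    have := Nat.div_mul_cancel hdvd
    rw [h] at this
    omega
  · intro f hf
    rw [Nat.div_mul_cancel hdvd, ← hF]
    exact FiniteField.pow_card_sub_one_eq_one f hf
  · classical
    intro f hf
    set T : Finset F := Finset.univ.filter fun x => x ^ p = x
    set S : Finset F := (Finset.range p).image fun n : ℕ => (n : F)
    have hS : S.card = p := by
      rw [Finset.card_image_of_injOn, Finset.card_range]
      intro a ha b hb hab
      exact CharP.natCast_injOn_Iio F p (by simpa using ha) (by simpa using hb) hab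
    have hT : T.card ≤ p := by
      have hne : (X ^ p - X : F[X]) ≠ 0 := FiniteField.X_pow_card_sub_X_ne_zero F h1
      calc T.card ≤ (X ^ p - X : F[X]).roots.toFinset.card := by
            refine Finset.card_le_card fun x hx => ?_
            have := (Finset.mem_filter.1 hx).2
            simp [Multiset.mem_toFinset, mem_roots hne, sub_eq_zero, this]
        _ ≤ _ := Multiset.toFinset_card_le _
        _ ≤ (X ^ p - X : F[X]).natDegree := card_roots' _
        _ = p := FiniteField.X_pow_card_sub_X_natDegree_eq F h1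
    have hST : S ⊆ T := by
      intro x hx
      obtain ⟨n, -, rfl⟩ := Finset.mem_image.1 hx
      refine Finset.mem_filter.2 ⟨Finset.mem_univ _, ?_⟩
      rw [← map_natCast (ZMod.castHom (dvd_refl p) F) n, ← map_pow, ZMod.pow_card]
    have hfT : f ∈ T := Finset.mem_filter.2 ⟨Finset.mem_univ _, hf⟩
    rw [← Finset.eq_of_subset_of_card_le hST (by omega)] at hfT
    obtain ⟨n, -, rfl⟩ := Finset.mem_image.1 hfT
    exact ⟨n, by simp⟩
  · intro B l b hl hb hb0 hinv a
    let := ZMod.algebra F p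
    have hfin : Module.finrank (ZMod p) F = q := by
      have h := Module.card_eq_pow_finrank (K := ZMod p) (V := F)
      rw [hF, ZMod.card] at h
      exact (Nat.pow_right_injective h1 h).symm
    have := Subalgebra.isSimpleOrder_of_finrank_prime (ZMod p) F (hfin ▸ hq)
    let S : Subalgebra (ZMod p) F :=
      { carrier := {f | ∀ x ∈ B, f * x ∈ B}
        mul_mem' := fun {f g} hf hg x hx => by rw [mul_assoc]; exact hf _ (hg x hx)
        add_mem' := fun {f g} hf hg x hx => by rw [add_mul]; exact add_mem (hf x hx) (hg x hx)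
        algebraMap_mem' := fun r x hx => by
          obtain ⟨n, rfl⟩ := ZMod.natCast_zmod_surjective r
          rw [map_natCast, ← nsmul_eq_mul]
          exact nsmul_mem hx n }
    rcases eq_bot_or_eq_top S with hS | hS
    · exfalso
      have hl' : l ∈ S := hinv
      rw [hS] at hl'
      obtain ⟨r, rfl⟩ := Algebra.mem_bot.1 hl'
      exact hl (by rw [← map_pow, ZMod.pow_card])
    · have : a / b ∈ S := hS ▸ Algebra.mem_top
      have := this b hb
      rwa [div_mul_cancel₀ _ hb0] at this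

/-- A norm-one element `x` with `1 - x` of norm one. -/
theorem exists_pair (p q : ℕ) (hp : p.Prime) (hq : q.Prime) (hlt : q < p) (hq2 : q ≠ 2) (F : Type*) [Field F]
    [Fintype F] (hF : Fintype.card F = p ^ q)
    (hA : Nat.Coprime ((p ^ q - 1) / (p - 1)) (p - 1)) :
    ∃ x : F, x ^ ((p ^ q - 1) / (p - 1)) = 1 ∧ (1 - x) ^ ((p ^ q - 1) / (p - 1)) = 1 := by
  classical
  have := Fact.mk hp
  have hchar : CharP F p := charP_of_card_eq_prime_pow hF
  let := ZMod.algebra F p
  have h1 := hp.one_lt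
  have hfin : Module.finrank (ZMod p) F = q := by
    have h := Module.card_eq_pow_finrank (K := ZMod p) (V := F)
    rw [hF, ZMod.card] at h
    exact (Nat.pow_right_injective h1 h).symm
  have hN : (p ^ q - 1) / (p - 1) = ∑ i ∈ Finset.range q, p ^ i := (Nat.geomSum_eq hp.two_le q).symm
  have hnorm : ∀ x : F, algebraMap (ZMod p) F (Algebra.norm (ZMod p) x) =
      x ^ ((p ^ q - 1) / (p - 1)) := by
    intro x
    rw [hN, FiniteField.algebraMap_norm_eq_pow_sum, hfin, Nat.card_zmod]
  suffices h : ∃ x : F, Algebra.norm (ZMod p) x = 1 ∧ Algebra.norm (ZMod p) (1 - x) = 1 by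
    obtain ⟨x, hx, hx'⟩ := h
    exact ⟨x, by rw [← hnorm, hx, map_one], by rw [← hnorm, hx', map_one]⟩
  by_cases hq3 : q = 3
  · subst hq3
    obtain ⟨b, hb⟩ : ∃ b : ZMod p, ∀ t, t ^ 3 + b * t ^ 2 + (1 - b) * t - 1 ≠ 0 := by
      by_contra hne
      push Not at hne
      choose r hr using hne
      have hinj : Function.Injective r := by
        intro b b' hbb
        have h' := hr b'
        rw [← hbb] at h'
        have h3 : (b - b') * (r b * (r b - 1)) = 0 := by linear_combination hr b - h'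
        rcases mul_eq_zero.1 h3 with h | h
        · exact sub_eq_zero.1 h
        · exfalso
          rcases mul_eq_zero.1 h with h | h
          · have := hr b; rw [h] at this; simp at this
          · have := hr b; rw [sub_eq_zero.1 h] at this; simp at this
      obtain ⟨b, hb⟩ := (Finite.injective_iff_surjective.1 hinj) 0
      have := hr b
      rw [hb] at this
      simp at this
    let f : (ZMod p)[X] := X ^ 3 + C b * X ^ 2 + C (1 - b) * X + C (-1)
    have hd : f.natDegree = 3 := by simp only [f]; compute_degree!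
    have hm : f.Monic := by simp only [f]; monicity!
    have hirr : Irreducible f := by
      refine (hm.irreducible_iff_roots_eq_zero_of_degree_le_three (by omega) (by omega)).2 ?_
      refine Multiset.eq_zero_of_forall_notMem fun t ht => hb t ?_
      have := (mem_roots hm.ne_zero).1 ht
      simpa [f, IsRoot, sub_eq_add_neg] using this
    have := Fact.mk hirr
    have : Module.Finite (ZMod p) (AdjoinRoot f) := hm.finite_adjoinRoot
    have : Finite (AdjoinRoot f) := Module.finite_of_finite (ZMod p)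
    have : Fintype (AdjoinRoot f) := Fintype.ofFinite _
    have hfin' : Module.finrank (ZMod p) (AdjoinRoot f) = 3 := by
      rw [(AdjoinRoot.powerBasis hm.ne_zero).finrank, AdjoinRoot.powerBasis_dim, hd]
    have hcard : Fintype.card (AdjoinRoot f) = Fintype.card F := by
      rw [hF, Module.card_eq_pow_finrank (K := ZMod p), hfin', ZMod.card]
    let e := FiniteField.algEquivOfCardEq p hcard
    refine ⟨e (AdjoinRoot.root f), ?_, ?_⟩
    · rw [Algebra.norm_eq_of_algEquiv]
      have h := Cfsg.Agent.S1471.norm_sub_root p f hm 0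
      rw [map_zero, zero_sub] at h
      have h' : Algebra.norm (ZMod p) (algebraMap (ZMod p) (AdjoinRoot f) (-1)) = -1 := by
        rw [Algebra.norm_algebraMap, hfin']; ring
      rw [show AdjoinRoot.root f = algebraMap (ZMod p) (AdjoinRoot f) (-1) * -AdjoinRoot.root f by simp,
        map_mul, h, h']
      simp [f]
    · rw [show (1 : F) - e (AdjoinRoot.root f) =
        e (algebraMap (ZMod p) (AdjoinRoot f) 1 - AdjoinRoot.root f) by simp,
        Algebra.norm_eq_of_algEquiv, Cfsg.Agent.S1471.norm_sub_root p f hm 1]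
      simp [f]
  have hq5 : 5 ≤ q := by
    have h2q := hq.two_le
    by_contra h
    interval_cases q
    · exact hq2 rfl
    · exact hq3 rfl
    · exact absurd hq (by norm_num)
  let φ : Fˣ →* (ZMod p)ˣ := Units.map (Algebra.norm (ZMod p) (S := F))
  let U : Finset F := Finset.univ.filter fun a => Algebra.norm (ZMod p) a = 1
  have hU1 : (1 : F) ∈ U := by simp [U]
  have hU0 : (0 : F) ∉ U := by simp [U]
  have hUmul : ∀ x ∈ U, ∀ y ∈ U, x * y ∈ U := fun x hx y hy => by
    simp [U] at hx hy ⊢; simp [hx, hy]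
  have hUcard : p ^ q - 1 = U.card * (p - 1) := by
    have h := φ.ker.card_mul_index
    rw [Subgroup.index_ker, MonoidHom.range_eq_top.2 (FiniteField.unitsMap_norm_surjective _ _),
      Subgroup.card_top, Nat.card_units, Nat.card_units, Nat.card_zmod,
      Nat.card_eq_fintype_card (α := F), hF] at h
    rw [← h, ← Nat.card_eq_finsetCard U]
    congr 1
    refine Nat.card_congr ⟨fun x => ⟨((x : Fˣ) : F), ?_⟩, fun a => ⟨Units.mk0 (a : F) ?_, ?_⟩, ?_, ?_⟩
    · have hx : φ (x : Fˣ) = 1 := x.2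
      simpa [φ, U, Units.ext_iff] using hx
    · exact fun h => hU0 (h ▸ a.2)
    · have ha : Algebra.norm (ZMod p) (a : F) = 1 := (Finset.mem_filter.1 a.2).2
      rw [MonoidHom.mem_ker]
      simpa [φ, Units.ext_iff] using ha
    · intro x; exact Subtype.ext (Units.ext rfl)
    · intro a; exact Subtype.ext rfl
  have hUge : p ^ (q - 1) ≤ U.card := by
    have hpos : 0 < U.card := Finset.card_pos.2 ⟨1, hU1⟩
    have h2 : p ^ q ≤ U.card * p := by
      have hm : U.card * p = U.card * (p - 1) + U.card := by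
        rw [← Nat.mul_succ, Nat.succ_eq_add_one, Nat.sub_add_cancel hp.one_le]
      omega
    rw [show q = q - 1 + 1 by omega, pow_succ] at h2
    exact Nat.le_of_mul_le_mul_right h2 hp.pos
  have hmain := card_sq_le_mul_card_add U hU0 hU1 hUmul (c := (1 : F)) one_ne_zero
  by_contra hno
  have hn : (U.filter fun u => (1 : F) - u ∈ U).card = 0 := by
    rw [Finset.card_eq_zero, Finset.filter_eq_empty_iff]
    intro u hu hu'
    exact hno ⟨u, (Finset.mem_filter.1 hu).2, (Finset.mem_filter.1 hu').2⟩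
  rw [hn, hF] at hmain
  set s := Real.sqrt ((p ^ q : ℕ) : ℝ)
  have hs : s * s = ((p ^ q : ℕ) : ℝ) := Real.mul_self_sqrt (Nat.cast_nonneg _)
  have hs0 : 0 ≤ s := Real.sqrt_nonneg _
  have hU' : ((p : ℝ) ^ (q - 1)) ≤ (U.card : ℝ) := by exact_mod_cast hUge
  push_cast at hmain hs
  have hp2' : (2 : ℝ) ≤ p := by exact_mod_cast hp.two_le
  have hq' : (p : ℝ) ^ q * (p : ℝ) ^ (q - 2) ≤ (p : ℝ) ^ q * s := by
    calc (p : ℝ) ^ q * (p : ℝ) ^ (q - 2) = ((p : ℝ) ^ (q - 1)) ^ 2 := by
          rw [← pow_mul, ← pow_add]; congr 1; omega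
      _ ≤ (U.card : ℝ) ^ 2 := by gcongr
      _ ≤ _ := by simpa using hmain
  have hq'' : (p : ℝ) ^ (q - 2) ≤ s :=
    le_of_mul_le_mul_left hq' (show (0 : ℝ) < (p : ℝ) ^ q by positivity)
  have hbig : 2 * (p : ℝ) ^ q ≤ ((p : ℝ) ^ (q - 2)) ^ 2 := by
    calc 2 * (p : ℝ) ^ q ≤ (p : ℝ) ^ (q + 1) := by rw [pow_succ']; gcongr
      _ ≤ (p : ℝ) ^ ((q - 2) * 2) := by gcongr; linarith; omega
      _ = _ := pow_mul _ _ _
  have := pow_le_pow_left₀ (by positivity) hq'' 2
  have : (0 : ℝ) < (p : ℝ) ^ q := by positivity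
  nlinarith

end CfsgLib.AppendixC
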