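import Cfsg.Agent.Lib.AppendixC.Loops

/-!
The final contradiction of Appendix C: in a configuration with a pair `x + z = 1` of norm-one
elements, `s` commutes with `t s t⁻¹`.
-/

set_option autoImplicit false
set_option linter.unusedSectionVars false

namespace CfsgLib.AppendixC

namespace Config

variable {p N : ℕ} {F : Type*} [Field F] {G : Type*} [Group G] {C : Config p N F G}
  (d : FieldData p N F)

/-- A pair together with the decomposition of `1 - Φ 2 x`. -/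
structure Pair (C : Config p N F G) (x z : F) (c : ℤ) (θ : F) : Prop where
  hx : x ^ N = 1
  hz : z ^ N = 1
  sum : x + z = 1
  hc : (c : F) ≠ 0
  hθ : θ ^ N = 1
  dec : 1 - C.Φ 1 (C.Φ 1 x) = c * C.Φ 1 θ

include d

theorem pair_x_ne_one {x z : F} (hz : z ^ N = 1) (h : x + z = 1) : x ≠ 1 := by
  rintro rfl
  exact d.ne_zero hz (by linear_combination h)

theorem exists_pair_data {x z : F} (hx : x ^ N = 1) (hz : z ^ N = 1) (h : x + z = 1) :
    ∃ c θ, Pair C x z c θ := by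
  have hX := C.Φ_mem 1 _ hx
  have hne : 1 - C.Φ 1 (C.Φ 1 x) ≠ 0 := by
    rw [sub_ne_zero]
    intro e
    refine pair_x_ne_one d hz h (C.Φ_inj d 1 hx (one_pow N) ?_)
    rw [C.Φ_one d]
    exact C.Φ_inj d 1 hX (one_pow N) (by rw [C.Φ_one d]; exact e.symm)
  obtain ⟨c, ψ, hc, hψ, he⟩ := d.exists_decomp hne
  refine ⟨c, C.Φ (-1) ψ, hx, hz, h, hc, C.Φ_mem _ _ hψ, ?_⟩
  rw [C.Φ_comp _ _ _ hψ, add_neg_cancel, C.Φ_zero _ hψ, he]

theorem Pair.gamma {x z : F} {c : ℤ} {θ : F} (h : Pair C x z c θ) :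
    C.Gamma c (θ / C.Φ 1 z) ((1 + C.Φ 1 x - C.Φ 1 z) / C.Φ 1 z)
      ((C.Φ 1 x + C.Φ 1 z - 1) / C.Φ 1 z) := by
  have hZ := C.Φ_mem 1 _ h.hz
  have hZ0 := d.ne_zero hZ
  have hZi : (C.Φ 1 z)⁻¹ ^ N = 1 := by rw [inv_pow, hZ, inv_one]
  refine ⟨by rw [div_pow, h.hθ, hZ, div_one], fun K => ?_⟩
  have hr := (relation (C := C) d h.hx h.hz h.sum (-K)).scale hZi
  have e1 : C.Φ 1 (C.Φ 1 z)⁻¹ * (-(((-K : ℤ)) : F) * C.Φ 1 (C.Φ 1 z)) = K := by
    rw [C.Φ_inv d 1 hZ]
    have := d.ne_zero (C.Φ_mem 1 _ hZ)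
    push_cast; field_simp
  have e2 : C.Φ 1 (C.Φ 1 z)⁻¹ * (((-K : ℤ) : F) * (C.Φ 1 (C.Φ 1 x) - 1)) =
      (K : F) * c * C.Φ 1 (θ / C.Φ 1 z) := by
    rw [div_eq_mul_inv, C.Φ_mul 1 _ _ h.hθ hZi, show C.Φ 1 (C.Φ 1 x) - 1 = -((c : F) * C.Φ 1 θ) by
      rw [← h.dec]; ring]
    push_cast; ring
  rw [e1, e2] at hr
  convert hr using 1 <;> push_cast <;> ring

theorem frob_add (a b : F) : (a + b) ^ p = a ^ p + b ^ p := by
  have := d.char; have := Fact.mk d.prime
  exact add_pow_char (R := F) a b p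

theorem frob_sub (a b : F) : (a - b) ^ p = a ^ p - b ^ p := by
  have := d.char; have := Fact.mk d.prime
  exact sub_pow_char (R := F) a b

theorem Pair.frob {x z : F} {c : ℤ} {θ : F} (h : Pair C x z c θ) :
    Pair C (x ^ p) (z ^ p) c (θ ^ p) := by
  refine ⟨by rw [pow_right_comm, h.hx, one_pow], by rw [pow_right_comm, h.hz, one_pow], ?_, h.hc,
    by rw [pow_right_comm, h.hθ, one_pow], ?_⟩
  · rw [← frob_add d, h.sum, one_pow]
  · rw [C.Φ_pow d 1 h.hx, C.Φ_pow d 1 (C.Φ_mem 1 _ h.hx), C.Φ_pow d 1 h.hθ]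
    have := congrArg (· ^ p) h.dec
    simp only [frob_sub d, one_pow, mul_pow, d.int_pow] at this
    exact this

/-- If every pair gives a loop, `s` commutes with `t s t⁻¹`; otherwise some pair moves the point. -/
theorem exists_moving (hg : ¬ Goal C) {x₀ z₀ : F} (hx₀ : x₀ ^ N = 1) (hz₀ : z₀ ^ N = 1)
    (h₀ : x₀ + z₀ = 1) : ∃ x z c θ, Pair C x z c θ ∧ θ ≠ C.Φ 1 z := by
  by_contra hall
  push Not at hall
  -- then `Φ 2` preserves pairs
  have hstep : ∀ x z : F, x ^ N = 1 → z ^ N = 1 → x + z = 1 →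
      C.Φ 2 x + C.Φ 2 z = 1 := by
    intro x z hx hz h
    obtain ⟨c, θ, hP⟩ := exists_pair_data (C := C) d hx hz h
    obtain ⟨c', θ', hP'⟩ := exists_pair_data (C := C) d hz hx (by rw [add_comm]; exact h)
    have e1 := hP.dec
    have e2 := hP'.dec
    rw [hall _ _ _ _ hP, C.Φ_comp _ _ _ hx, C.Φ_comp _ _ _ hz] at e1
    rw [hall _ _ _ _ hP', C.Φ_comp _ _ _ hx, C.Φ_comp _ _ _ hz] at e2
    have hX := C.Φ_mem 2 _ hx
    have hZ := C.Φ_mem 2 _ hz
    have hne : C.Φ 2 x ≠ C.Φ 2 z := by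
      intro e
      have hxz := C.Φ_inj d 2 hx hz e
      obtain ⟨m, hm⟩ := d.int_of_pow (2 : F)⁻¹ (by
        rw [inv_pow]; congr 1; exact_mod_cast d.int_pow 2)
      have hx2 : x = m := by
        rw [hm]
        refine eq_inv_of_mul_eq_one_left ?_
        rw [← hxz] at h
        linear_combination h
      exact pair_x_ne_one d hz h (d.eq_one_of_int hx hx2)
    norm_num at e1 e2
    by_cases hc : (c : F) = 1
    · rw [hc] at e1; linear_combination -e1
    · exfalso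
      have e3 : ((c : F) - 1) * C.Φ 2 z = ((c' : F) - 1) * C.Φ 2 x := by
        linear_combination e2 - e1
      obtain ⟨k, hk⟩ := d.int_of_pow (((c' : F) - 1) / ((c : F) - 1)) (by
        rw [div_pow, frob_sub d, frob_sub d, d.int_pow, d.int_pow, one_pow])
      have e4 : C.Φ 2 z / C.Φ 2 x = k := by
        rw [hk, div_eq_div_iff (d.ne_zero hX) (sub_ne_zero.2 hc)]
        linear_combination e3
      have := d.eq_one_of_int (by rw [div_pow, hZ, hX, div_one]) e4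
      rw [div_eq_one_iff_eq (d.ne_zero hX)] at this
      exact hne this.symm
  have hiter : ∀ i : ℕ, ∀ x z : F, x ^ N = 1 → z ^ N = 1 → x + z = 1 →
      C.Φ (2 * i) x + C.Φ (2 * i) z = 1 := by
    intro i
    induction i with
    | zero => intro x z hx hz h; simpa [C.Φ_zero _ hx, C.Φ_zero _ hz] using h
    | succ i ih =>
      intro x z hx hz h
      have := ih _ _ (C.Φ_mem 2 _ hx) (C.Φ_mem 2 _ hz) (hstep x z hx hz h)
      rw [C.Φ_comp _ _ _ hx, C.Φ_comp _ _ _ hz] at this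
      convert this using 3 <;> push_cast <;> ring
  obtain ⟨r, hr⟩ := d.prime.odd_of_ne_two d.odd
  have hone : ∀ y : F, y ^ N = 1 → C.Φ (2 * (r + 1 : ℕ)) y = C.Φ 1 y := by
    intro y hy
    conv_rhs => rw [← C.Φ_period y hy]
    rw [C.Φ_comp _ _ _ hy]
    congr 1
    rw [hr]; push_cast; ring
  have hD := hiter (r + 1) _ _ hx₀ hz₀ h₀
  rw [hone _ hx₀, hone _ hz₀] at hD
  have hX := C.Φ_mem 1 _ hx₀
  have hZ := C.Φ_mem 1 _ hz₀
  have hr1 := relation (C := C) d hx₀ hz₀ h₀ 1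
  have hD2 : C.Φ 1 (C.Φ 1 x₀) - 1 = -C.Φ 1 (C.Φ 1 z₀) := by
    have := hstep x₀ z₀ hx₀ hz₀ h₀
    rw [C.Φ_comp _ _ _ hx₀, C.Φ_comp _ _ _ hz₀]
    norm_num
    linear_combination this
  simp only [Int.cast_one, one_mul, neg_one_mul, hD, sub_self, add_zero, sub_zero, hD2] at hr1
  have hcomm : Commute (C.ι (C.Φ 1 x₀)) (C.π 1 (C.Φ 1 (C.Φ 1 z₀))) := by
    have e : 1 + C.Φ 1 x₀ - C.Φ 1 z₀ = ((2 : ℤ) : F) * C.Φ 1 x₀ := by
      push_cast; linear_combination -hD
    rw [e] at hr1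
    have h : Commute (C.ι (((2 : ℤ) : F) * C.Φ 1 x₀)) (C.π 1 (C.Φ 1 (C.Φ 1 z₀))) := by
      have := (show Commute _ _ from hr1).inv_right
      rwa [← C.π_neg, neg_neg] at this
    obtain ⟨m, hm⟩ := d.int_of_pow (2 : F)⁻¹ (by
      rw [inv_pow]; congr 1; exact_mod_cast d.int_pow 2)
    have h' := h.zpow_left m
    rw [← C.ι_intMul, hm, ← mul_assoc] at h'
    push_cast at h'
    rwa [inv_mul_cancel₀ d.two_ne, one_mul] at h'
  obtain ⟨u, hu⟩ := C.equiv (C.Φ 1 z₀)⁻¹ (by rw [inv_pow, hZ, inv_one])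
  have h2 := hcomm.map (MulAut.conj u).toMonoidHom
  simp only [MulEquiv.coe_toMonoidHom, MulAut.conj_apply] at h2
  rw [← C.π_zero_frame, π, π, hu, hu, C.Φ_zero _ (by rw [inv_pow, hZ, inv_one]),
    C.Φ_inv d 1 hZ, inv_mul_cancel₀ (d.ne_zero (C.Φ_mem 1 _ hZ))] at h2
  refine hg (goal_of_commute d (η := (C.Φ 1 z₀)⁻¹ * C.Φ 1 x₀) ?_ ?_ (by simpa [π] using h2))
  · rw [mul_pow, inv_pow, hZ, inv_one, one_mul, hX]
  · rw [Ne, inv_mul_eq_one₀ (d.ne_zero hZ)]
    intro e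
    have hxz := C.Φ_inj d 1 hz₀ hx₀ e
    obtain ⟨m, hm⟩ := d.int_of_pow (2 : F)⁻¹ (by
      rw [inv_pow]; congr 1; exact_mod_cast d.int_pow 2)
    have hx2 : x₀ = m := by
      rw [hm]
      refine eq_inv_of_mul_eq_one_left ?_
      rw [hxz] at h₀
      linear_combination h₀
    exact pair_x_ne_one d hz₀ h₀ (d.eq_one_of_int hx₀ hx2)

omit d

/-- An element of `Q` whose conjugate of `s` commutes with `s` centralizes `s`. -/
theorem fixed_of_fixed (d : FieldData p N F) {v : G} (hv : v ∈ C.Q) {i : ℤ} (hi : (i : F) ≠ 0)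
    (h : Commute (C.ι 1 ^ i) v) : Commute (C.ι 1) v := by
  obtain ⟨m, hm⟩ := d.int_of_pow (i : F)⁻¹ (by rw [inv_pow, d.int_pow])
  have := h.zpow_left m
  rw [← zpow_mul, ← C.ι_int, mul_comm] at this
  push_cast at this
  rwa [hm, inv_mul_cancel₀ hi] at this

theorem commute_of_commute (d : FieldData p N F) {w : G} (hw : w ∈ C.Q)
    (h : Commute (C.ι 1) (w * C.ι 1 * w⁻¹)) : Commute (C.ι 1) w := by
  set s := C.ι 1 with hs
  set v := w * (s * w⁻¹ * s⁻¹) with hv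
  have hvQ : v ∈ C.Q := mul_mem hw ((Subgroup.mem_normalizer_iff.1 C.norm_s _).1 (inv_mem hw))
  have hsv : Commute s v := by
    have : v = w * s * w⁻¹ * s⁻¹ := by rw [hv]; group
    rw [this]
    exact h.mul_right (Commute.refl s).inv_right
  have hstep : s * w * s⁻¹ = v⁻¹ * w := by rw [hv]; group
  have hn : ∀ n : ℕ, s ^ n * w * (s ^ n)⁻¹ = (v⁻¹) ^ n * w := by
    intro n
    induction n with
    | zero => simp
    | succ n ih =>
      calc s ^ (n + 1) * w * (s ^ (n + 1))⁻¹ = s * (s ^ n * w * (s ^ n)⁻¹) * s⁻¹ := by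
            rw [pow_succ']; group
        _ = (s * (v⁻¹) ^ n * s⁻¹) * (s * w * s⁻¹) := by rw [ih]; group
        _ = (v⁻¹) ^ n * (v⁻¹ * w) := by
            rw [(hsv.inv_right.pow_right n).eq, mul_inv_cancel_right, hstep]
        _ = _ := by rw [← mul_assoc, ← pow_succ]
  have hsp : s ^ p = 1 := by
    have := d.char
    rw [hs, ← zpow_natCast, ← C.ι_int, Int.cast_natCast, CharP.cast_eq_zero, C.ι_zero]
  have h1 := hn p
  rw [hsp, one_mul, inv_one, mul_one, right_eq_mul] at h1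
  have hv1 : v = 1 := inv_eq_one.1 (C.coprime _ (inv_mem hvQ) h1)
  rw [hv1, inv_one, one_mul, mul_inv_eq_iff_eq_mul] at hstep
  exact hstep

theorem s1_eq : C.π 1 1 = C.t * (C.ι 1)⁻¹ * C.ι 1 * (C.t * (C.ι 1)⁻¹)⁻¹ := by
  rw [π]; group

theorem w_mem : C.t * (C.ι 1)⁻¹ ∈ C.Q := by
  have := C.ts_mem 1
  rwa [zpow_one, Int.cast_one, C.ι_neg] at this

theorem s_pow_mem_Q (d : FieldData p N F) {n : ℤ} (h : C.ι 1 ^ n ∈ C.Q) : (n : F) = 0 := by
  have := d.char
  have h1 : (C.ι 1 ^ n) ^ p = 1 := by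
    rw [← C.ι_int, ← zpow_natCast, ← C.ι_intMul, Int.cast_natCast, CharP.cast_eq_zero, zero_mul,
      C.ι_zero]
  have h2 := C.coprime _ h h1
  rw [← C.ι_int, ← C.ι_zero] at h2
  exact C.ι_inj h2

/-- A family mapping each class `K` to `K * c` with scalar label forces `c = 1` or `c = -1`. -/
theorem scalar_relation (d : FieldData p N F) (hg : ¬ Goal C) {c P : ℤ}
    (h : C.Gamma c 1 0 ((P : F) * (1 - c))) :
    (c : F) = 1 ∨ (2 * (P : F) = 1 ∧ (c : F) = -1) := by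
  by_contra hne
  push Not at hne
  obtain ⟨hc1, hne⟩ := hne
  set s := C.ι 1 with hs
  set w := C.t * s⁻¹ with hw
  have hwQ : w ∈ C.Q := w_mem
  have hnorm : ∀ (n : ℤ) (a : G), a ∈ C.Q → s ^ n * a * (s ^ n)⁻¹ ∈ C.Q := fun n a ha =>
    (Subgroup.mem_normalizer_iff.1 (zpow_mem C.norm_s n) _).1 ha
  have hπ : ∀ K : ℤ, C.π 1 (K : F) = w * s ^ K * w⁻¹ := by
    intro K
    rw [C.π_int, s1_eq, conj_zpow]
  -- the relation at the point `K`
  have hrel : ∀ K : ℤ, s ^ (-(K * (P * (1 - c)))) * (w * s ^ K * w⁻¹) =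
      w * s ^ (K * c) * w⁻¹ * s ^ (K * (P * (1 - c))) := by
    intro K
    have hK := h.2 K
    unfold Arr at hK
    rw [C.Φ_one d] at hK
    rw [← hπ, ← hπ, ← C.ι_int, ← C.ι_int]
    push_cast at hK ⊢
    simpa using hK
  -- exponents agree modulo `p`
  have hexp : 2 * (P : F) = 1 := by
    have h1 := hrel 1
    simp only [one_mul] at h1
    set a : ℤ := P * (1 - c)
    have e1 : s ^ (-a) * (w * s ^ (1 : ℤ) * w⁻¹) =
        ((s ^ (-a) * w * (s ^ (-a))⁻¹) * (s ^ (1 - a) * w⁻¹ * (s ^ (1 - a))⁻¹)) * s ^ (1 - a) := by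
      group
    have e2 : w * s ^ c * w⁻¹ * s ^ a =
        (w * (s ^ c * w⁻¹ * (s ^ c)⁻¹)) * s ^ (c + a) := by group
    rw [e1, e2] at h1
    have hmem : s ^ ((1 - a) - (c + a)) ∈ C.Q := by
      rw [sub_eq_add_neg, zpow_add]
      have e3 : s ^ (1 - a) * s ^ (-(c + a)) =
          ((s ^ (-a) * w * (s ^ (-a))⁻¹) * (s ^ (1 - a) * w⁻¹ * (s ^ (1 - a))⁻¹))⁻¹ *
            (w * (s ^ c * w⁻¹ * (s ^ c)⁻¹)) := by
        rw [eq_inv_mul_iff_mul_eq, ← mul_assoc, h1]; group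
      rw [e3]
      exact mul_mem (inv_mem (mul_mem (hnorm _ _ hwQ) (hnorm _ _ (inv_mem hwQ))))
        (mul_mem hwQ (hnorm _ _ (inv_mem hwQ)))
    have h0 := s_pow_mem_Q d hmem
    simp only [a] at h0
    push_cast at h0
    have : ((1 : F) - c) * (1 - 2 * P) = 0 := by linear_combination h0
    rcases mul_eq_zero.1 this with h | h
    · exact absurd (sub_eq_zero.1 h).symm hc1
    · exact (sub_eq_zero.1 h).symm
  have hc2 := hne hexp
  have h2 := hrel 2
  have e : s ^ (2 * (P * (1 - c))) = s ^ (1 - c) := by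
    rw [← C.ι_int, ← C.ι_int]
    congr 1
    push_cast
    linear_combination (1 - (c : F)) * hexp
  rw [zpow_neg, e, ← zpow_neg] at h2
  -- translate to `Q`
  set σ : ℤ → G → G := fun n a => s ^ n * a * (s ^ n)⁻¹ with hσ
  have σmem : ∀ n a, a ∈ C.Q → σ n a ∈ C.Q := hnorm
  have σσ : ∀ m n a, σ m (σ n a) = σ (m + n) a := fun m n a => by
    simp only [hσ, zpow_add]; group
  have σmul : ∀ n a b, σ n (a * b) = σ n a * σ n b := fun n a b => by simp only [hσ]; group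
  have σinv : ∀ n a, σ n a⁻¹ = (σ n a)⁻¹ := fun n a => by simp only [hσ]; group
  have σ0 : ∀ a, σ 0 a = a := fun a => by simp [hσ]
  have key : σ (c - 1) w * (σ (c + 1) w)⁻¹ = w * (σ (2 * c) w)⁻¹ := by
    refine mul_right_cancel (b := s ^ (c + 1)) ?_
    calc σ (c - 1) w * (σ (c + 1) w)⁻¹ * s ^ (c + 1)
        = s ^ (-(1 - c)) * (w * s ^ (2 : ℤ) * w⁻¹) := by simp only [hσ]; group
      _ = w * s ^ (2 * c) * w⁻¹ * s ^ (1 - c) := h2
      _ = w * (σ (2 * c) w)⁻¹ * s ^ (c + 1) := by simp only [hσ]; group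
  let Qc : CommGroup C.Q :=
    { (inferInstance : Group C.Q) with
      mul_comm := fun a b => Subtype.ext (C.comm _ a.2 _ b.2) }
  let W : ℤ → C.Q := fun n => ⟨σ n w, σmem _ _ hwQ⟩
  have hshift : ∀ (k i j i' j' : ℤ), σ i w * σ j w = σ i' w * σ j' w →
      W (k + i) * W (k + j) = W (k + i') * W (k + j') := by
    intro k i j i' j' e
    refine Subtype.ext ?_
    show σ (k + i) w * σ (k + j) w = σ (k + i') w * σ (k + j') w
    rw [← σσ, ← σσ, ← σσ, ← σσ, ← σmul, ← σmul, e]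
  -- `v = σ (-1) w * σ c w = σ 1 w * σ (-c) w`
  have hv : σ (-1) w * σ c w = σ 1 w * σ (-c) w := by
    have := congrArg (σ (-c)) key
    simp only [σmul, σinv, σσ] at this
    rw [show -c + (c - 1) = -1 by ring, show -c + (c + 1) = 1 by ring,
      show -c + 2 * c = c by ring, show σ (-c) w = σ (-c + 0) w by rw [add_zero]] at *
    have h' : W (-1) * (W 1)⁻¹ = W (-c + 0) * (W c)⁻¹ := Subtype.ext (by
      simpa [W, σσ] using this)
    have h'' : W (-1) * W c = W 1 * W (-c + 0) := by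
      rw [mul_inv_eq_iff_eq_mul] at h'
      rw [h']; simp [mul_assoc, mul_left_comm, mul_comm]
    exact congrArg Subtype.val h''
  -- hence `v` is fixed
  have hfix : σ (1 - c) (σ (-1) w * σ c w) = σ (-1) w * σ c w := by
    rw [σmul, σσ, σσ, show 1 - c + -1 = -c by ring, show 1 - c + c = 1 by ring]
    rw [C.comm _ (σmem _ _ hwQ) _ (σmem _ _ hwQ)]
    exact hv.symm
  have hsv : Commute s (σ (-1) w * σ c w) := by
    refine fixed_of_fixed d (mul_mem (σmem _ _ hwQ) (σmem _ _ hwQ)) (i := 1 - c) ?_ ?_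
    · push_cast; exact sub_ne_zero.2 (Ne.symm hc1)
    · exact mul_inv_eq_iff_eq_mul.1 hfix
  have hv1 : σ (-1) w * σ c w = σ 0 w * σ (c + 1) w := by
    have h' : σ 1 (σ (-1) w * σ c w) = σ (-1) w * σ c w := by
      show s ^ (1 : ℤ) * _ * (s ^ (1 : ℤ))⁻¹ = _
      rw [zpow_one, hsv.eq, mul_inv_cancel_right]
    rw [σmul, σσ, σσ, add_neg_cancel, add_comm 1 c] at h'
    exact h'.symm
  -- `u = σ 1 w / w` satisfies `σ (c + 1) u = u⁻¹`
  let U : ℤ → C.Q := fun n => W (n + 1) * (W n)⁻¹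
  have hu : ∀ k : ℤ, U (k + (c + 1)) = (U k)⁻¹ := by
    intro k
    have h' := hshift (k + 1) (-1) c 0 (c + 1) hv1
    simp only [U]
    rw [show k + 1 + -1 = k by ring, show k + 1 + 0 = k + 1 by ring,
      show k + 1 + (c + 1) = k + (c + 1) + 1 by ring, show k + 1 + c = k + (c + 1) by ring] at h'
    rw [mul_inv_rev, inv_inv, mul_inv_eq_iff_eq_mul, mul_assoc]
    rw [eq_comm, mul_left_comm, inv_mul_eq_iff_eq_mul]
    exact h'
  have hu2 : U (2 * (c + 1)) = U 0 := by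
    have h1 := hu (c + 1)
    have h2 := hu 0
    rw [zero_add] at h2
    rw [two_mul, h1, h2, inv_inv]
  have hc0 : ((2 * (c + 1) : ℤ) : F) ≠ 0 := by
    push_cast
    exact mul_ne_zero d.two_ne (fun e => hc2 (by linear_combination e))
  have hU0 : (U 0 : G) = σ 1 w * w⁻¹ := by simp [U, W, σ0]
  have hcomm : Commute s (σ 1 w * w⁻¹) := by
    refine fixed_of_fixed d (mul_mem (σmem _ _ hwQ) (inv_mem hwQ)) hc0 ?_
    have h' : σ (2 * (c + 1)) (σ 1 w * w⁻¹) = σ 1 w * w⁻¹ := by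
      have e := congrArg Subtype.val hu2
      rw [hU0] at e
      rw [σmul, σinv, σσ, ← e]
      simp [U, W]
    exact mul_inv_eq_iff_eq_mul.1 h'
  have hw' : Commute s w := by
    have hwc : Commute s (w * s * w⁻¹) := by
      have e : w * s * w⁻¹ = (σ 1 w * w⁻¹)⁻¹ * s * 1 := by simp only [hσ]; group
      have e' : w * (σ 1 w)⁻¹ = (σ 1 w * w⁻¹)⁻¹ := by group
      rw [e, mul_one]
      exact hcomm.inv_right.mul_right (Commute.refl s)
    exact commute_of_commute d hwQ hwc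
  refine hg ?_
  unfold Goal
  rw [s1_eq, ← hs, ← hw, ← hw'.eq, mul_inv_cancel_right]

theorem Gamma.iterate (d : FieldData p N F) {c : ℤ} {l : F} {P Q : F}
    (h : C.Gamma c l (Q * (1 - l)) (P * (1 - c * l))) (j : ℕ) :
    C.Gamma (c ^ j) (l ^ j) (Q * (1 - l ^ j)) (P * (1 - (c : F) ^ j * l ^ j)) := by
  induction j with
  | zero =>
    refine ⟨by simp, fun K => ?_⟩
    simp [C.Φ_one d, Arr, C.ι_zero]
  | succ j ih =>
    have := ih.comp h
    rw [pow_succ, pow_succ]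
    convert this using 1 <;> push_cast <;> ring

include d

/-- The class of a family with these labels is `±1`. -/
theorem class_eq (hg : ¬ Goal C) {c P Q : ℤ} {l : F} (hc : (c : F) ≠ 0)
    (h : C.Gamma c l ((Q : F) * (1 - l)) ((P : F) * (1 - c * l))) :
    (c : F) = 1 ∨ (2 * (P : F) = 1 ∧ (c : F) = -1) := by
  have hN := h.iterate d N
  rw [h.1, sub_self, mul_zero, mul_one, ← Int.cast_pow] at hN
  rcases scalar_relation d hg hN with h1 | ⟨h1, h2⟩
  · exact Or.inl (d.eq_one_of_int (by exact_mod_cast h1) rfl)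
  · refine Or.inr ⟨h1, ?_⟩
    push_cast at h2
    have hodd : Odd N := Nat.not_even_iff_odd.1 fun e => d.odd_N (even_iff_two_dvd.1 e)
    have h3 : (((-c : ℤ)) : F) ^ N = 1 := by push_cast; rw [hodd.neg_pow, h2, neg_neg]
    have h4 := d.eq_one_of_int h3 rfl
    push_cast at h4
    linear_combination -h4

/-- Without loops all families have labels given by two constants. -/
theorem constants (hg : ¬ Goal C) {x z : F} {c : ℤ} {θ : F} (h : Pair C x z c θ)
    (hθ : θ ≠ C.Φ 1 z) :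
    NoLoop C ∧ ∃ (P Q : ℤ) (E D l : F), l ≠ 1 ∧ C.Gamma c l E D ∧ E = Q * (1 - l) ∧
      D = P * (1 - c * l) ∧ ((P : F) = 0 ∨ (2 * (P : F) = 1 ∧ (Q : F) = -1)) := by
  have hZN := C.Φ_mem 1 _ h.hz
  have hγ := h.gamma d
  have hγp := (h.frob d).gamma d
  rw [C.Φ_pow d 1 h.hx, C.Φ_pow d 1 h.hz] at hγp
  set X := C.Φ 1 x
  set Z := C.Φ 1 z
  have hZ0 := d.ne_zero hZN
  set l := θ / Z with hl
  have hl1 : l ≠ 1 := fun e => hθ (by rwa [hl, div_eq_one_iff_eq hZ0] at e)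
  rw [← div_pow θ, ← hl, ← one_pow (M := F) p, ← frob_add d, ← frob_sub d, ← frob_add d,
    ← frob_sub d, ← div_pow, ← div_pow] at hγp
  have hlp : l ≠ l ^ p := fun e => nonfixed d hγ.1 hl1 e.symm
  have hno := noLoop d hg hγ hγp hlp
  refine ⟨hno, ?_⟩
  obtain ⟨h1, h2⟩ := hγ.commutator hno hγp d.two_ne
  have hl' : 1 - l ≠ 0 := sub_ne_zero.2 (Ne.symm hl1)
  have hcl : 1 - (c : F) * l ≠ 0 := by
    intro e
    refine nonfixed d hγ.1 hl1 ?_
    have : l = (c : F)⁻¹ := eq_inv_of_mul_eq_one_left (by linear_combination -e)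
    rw [this, inv_pow, d.int_pow]
  have hlp' : (1 - l) ^ p ≠ 0 := pow_ne_zero _ hl'
  have hclp : (1 - (c : F) * l) ^ p ≠ 0 := pow_ne_zero _ hcl
  rw [show (1 : F) - l ^ p = (1 - l) ^ p by rw [frob_sub d, one_pow]] at h1
  rw [show (1 : F) - (c : F) * l ^ p = (1 - (c : F) * l) ^ p by
    rw [frob_sub d, one_pow, mul_pow, d.int_pow]] at h2
  obtain ⟨Q, hQ⟩ := d.int_of_pow ((1 + X - Z) / Z / (1 - l)) (by
    rw [div_pow, div_eq_div_iff hlp' hl']; exact h1.symm)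
  obtain ⟨P, hP⟩ := d.int_of_pow ((X + Z - 1) / Z / (1 - (c : F) * l)) (by
    rw [div_pow, div_eq_div_iff hclp hcl]; exact h2.symm)
  have hE0 : (1 + X - Z) / Z = Q * (1 - l) := by rw [hQ, div_mul_cancel₀ _ hl']
  have hD0 : (X + Z - 1) / Z = P * (1 - c * l) := by rw [hP, div_mul_cancel₀ _ hcl]
  refine ⟨P, Q, _, _, l, hl1, hγ, hE0, hD0, ?_⟩
  -- every family has labels given by `P` and `Q`
  have huniv : ∀ {c' : ℤ} {l' E' D' : F}, C.Gamma c' l' E' D' →
      E' = Q * (1 - l') ∧ D' = P * (1 - c' * l') := by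
    intro c' l' E' D' h'
    obtain ⟨e1, e2⟩ := h'.commutator hno hγ d.two_ne
    rw [hE0] at e1
    rw [hD0] at e2
    exact ⟨mul_right_cancel₀ hl' (by linear_combination e1),
      mul_right_cancel₀ hcl (by linear_combination e2)⟩
  obtain ⟨c', θ', h'⟩ := exists_pair_data (C := C) d h.hz h.hx (by rw [add_comm]; exact h.sum)
  have hγ' : C.Gamma c' (θ' / X) ((1 + Z - X) / X) ((Z + X - 1) / X) := h'.gamma d
  obtain ⟨hE1, hD1⟩ := huniv hγ'
  have hcs := class_eq d hg h.hc (hE0 ▸ hD0 ▸ hγ)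
  have hcs' := class_eq d hg h'.hc (hE1 ▸ hD1 ▸ hγ')
  have hXN : X ^ N = 1 := C.Φ_mem 1 _ h.hx
  have hX0 := d.ne_zero hXN
  have eE : 1 + X - Z = Q * (Z - θ) := by
    rw [div_eq_iff hZ0] at hE0
    rw [hE0, hl]; field_simp
  have eD : X + Z - 1 = P * (Z - c * θ) := by
    rw [div_eq_iff hZ0] at hD0
    rw [hD0, hl]; field_simp
  have eE' : 1 + Z - X = Q * (X - θ') := by
    rw [div_eq_iff hX0] at hE1
    rw [hE1]; field_simp
  have eD' : X + Z - 1 = P * (X - c' * θ') := by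
    rw [div_eq_iff hX0] at hD1
    rw [show X + Z - 1 = Z + X - 1 by ring, hD1]; field_simp
  have hne : X ≠ Z := by
    intro e
    have hxz := C.Φ_inj d 1 h.hx h.hz e
    obtain ⟨m, hm⟩ := d.int_of_pow (2 : F)⁻¹ (by
      rw [inv_pow]; congr 1; exact_mod_cast d.int_pow 2)
    have hx2 : x = m := by
      rw [hm]
      refine eq_inv_of_mul_eq_one_left ?_
      have := h.sum
      rw [← hxz] at this
      linear_combination this
    exact pair_x_ne_one d h.hz h.sum (d.eq_one_of_int h.hx hx2)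
  -- the mixed cases
  have hmix : ∀ {A B a : F}, A ^ N = 1 → A ≠ 1 → 2 * (P : F) = 1 → A + B - 1 = P * (B - a) →
      1 + A - B = Q * (B - a) → 1 + B - A = Q * (2 * (A - (A + B - 1))) → False := by
    intro A B a hAN hA hP2 f1 f2 f3
    have hQA : (Q : F) * (1 - B) + Q * (A + B - 1) = 1 := by
      refine mul_left_cancel₀ d.two_ne ?_
      linear_combination (-1 : F) * f2 - f3 + (2 * (Q : F)) * f1 + ((Q : F) * (B - a)) * hP2
    have hQ0 : (Q : F) ≠ 0 := fun e => by rw [e] at hQA; simp at hQA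
    obtain ⟨m, hm⟩ := d.int_of_pow (Q : F)⁻¹ (by rw [inv_pow, d.int_pow])
    refine hA (d.eq_one_of_int hAN (n := m) ?_)
    rw [hm]
    exact eq_inv_of_mul_eq_one_left (by linear_combination hQA)
  have hx1 := pair_x_ne_one d h.hz h.sum
  have hz1 := pair_x_ne_one d h.hx (show z + x = 1 by rw [add_comm]; exact h.sum)
  have hX1 : X ≠ 1 := fun e => hx1 (C.Φ_inj d 1 h.hx (one_pow N) (by rw [C.Φ_one d]; exact e))
  have hZ1 : Z ≠ 1 := fun e => hz1 (C.Φ_inj d 1 h.hz (one_pow N) (by rw [C.Φ_one d]; exact e))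
  rcases hcs with hc | ⟨hP2, hc⟩ <;> rcases hcs' with hc' | ⟨hP2', hc'⟩
  · left
    rw [hc, one_mul] at eD
    rw [hc', one_mul] at eD'
    have : 2 * ((P : F) * (X - Z)) = 0 := by
      linear_combination (P : F) * eE + (-(P : F)) * eE' + (-(Q : F)) * eD + (Q : F) * eD'
    exact ((mul_eq_zero.1 ((mul_eq_zero.1 this).resolve_left d.two_ne)).resolve_right
      (sub_ne_zero.2 hne))
  · rw [hc, one_mul] at eD
    rw [hc'] at eD'
    exfalso
    refine hmix hXN hX1 hP2' eD eE ?_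
    linear_combination eE' + (2 * (Q : F)) * eD' + ((Q : F) * (X + θ')) * hP2'
  · rw [hc', one_mul] at eD'
    rw [hc] at eD
    exfalso
    refine hmix hZN hZ1 hP2 (by linear_combination eD') eE' ?_
    linear_combination eE + (2 * (Q : F)) * eD + ((Q : F) * (Z + θ)) * hP2
  · right
    refine ⟨hP2, ?_⟩
    rw [hc] at eD
    rw [hc'] at eD'
    have : ((Q : F) + 1) * (2 * (X - Z)) = 0 := by
      linear_combination eE - eE' + (2 * (Q : F)) * eD + (-2 * (Q : F)) * eD' +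
        (-(Q : F) * (X + θ' - Z - θ)) * hP2
    have := (mul_eq_zero.1 this).resolve_right (mul_ne_zero d.two_ne (sub_ne_zero.2 hne))
    linear_combination this

omit d

/-- A family of the mirror configuration is a family of the configuration. -/
theorem Gamma.of_mirror (d : FieldData p N F) {c : ℤ} {l E D : F}
    (h : C.mirror.Gamma c l E D) : C.Gamma c l (-E - (1 - l)) (1 - c * l - D) := by
  refine ⟨h.1, fun K => ?_⟩
  have hK := h.2 K
  unfold Arr at hK ⊢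
  rw [mirror_π, mirror_π] at hK
  have hX : ∀ (K : ℤ) (ξ : F), ξ ^ N = 1 → C.π (-1) (-(K : F) * C.Φ (-1) ξ) =
      C.ι ((-(K : F) - 1) * ξ) * C.π 1 ((K : F) * C.Φ 1 ξ) * C.ι ((1 - (K : F)) * ξ) := by
    intro K ξ hξ
    have h1 := C.hexagon d 1 0 (-K) hξ
    have h2 := C.hexagon d 0 (-1) (-K) hξ
    rw [C.π_zero_frame, C.Φ_zero _ hξ] at h1 h2
    push_cast at h1 h2
    simp only [zero_sub, sub_zero, neg_neg] at h1 h2
    rw [← h1, ← eq_mul_inv_iff_mul_eq, ← C.ι_neg] at h2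
    rw [h2]
    congr 2
    ring
  have hl := h.1
  have e0 : C.π (-1) (-(K : F)) = C.ι (-(K : F) - 1) * C.π 1 (K : F) * C.ι (1 - (K : F)) := by
    have := hX K 1 (one_pow N)
    simpa [C.Φ_one d] using this
  have e1 := hX (K * c) l hl
  push_cast at e1
  have hΦ : C.mirror.Φ 1 l = C.Φ (-1) l := rfl
  rw [hΦ, neg_mul_eq_neg_mul] at hK
  rw [e0, e1] at hK
  simp only [mirror] at hK
  rw [← mul_assoc, ← mul_assoc, ← C.ι_add, mul_assoc _ (C.ι _) (C.ι _), ← C.ι_add] at hK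
  rw [← eq_mul_inv_iff_mul_eq, ← C.ι_neg, mul_assoc, mul_assoc, ← C.ι_add,
    ← inv_mul_eq_iff_eq_mul, ← C.ι_neg, ← mul_assoc, ← C.ι_add] at hK
  convert hK using 3 <;> ring

/-- In a configuration with a pair, `s` commutes with `t s t⁻¹`. -/
theorem goal (d : FieldData p N F) (C : Config p N F G) {x z : F} (hx : x ^ N = 1)
    (hz : z ^ N = 1) (h : x + z = 1) : Goal C := by
  by_contra hg
  have hg' : ¬ Goal C.mirror := fun e => hg (goal_of_mirror e)
  obtain ⟨x₁, z₁, c, θ, hP, hθ⟩ := exists_moving d hg hx hz h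
  obtain ⟨hno, P, Q, E, D, l, hl, hγ, hE, hD, hPQ⟩ := constants d hg hP hθ
  obtain ⟨x₂, z₂, c', θ', hP', hθ'⟩ := exists_moving d hg' hx hz h
  obtain ⟨-, P', Q', E', D', l', hl', hγ', hE', hD', hPQ'⟩ := constants d hg' hP' hθ'
  obtain ⟨e1, e2⟩ := (Gamma.of_mirror d hγ').commutator hno hγ d.two_ne
  subst hE hD hE' hD'
  have hl0 : (1 : F) - l ≠ 0 := sub_ne_zero.2 (Ne.symm hl)
  have hl0' : (1 : F) - l' ≠ 0 := sub_ne_zero.2 (Ne.symm hl')
  have hcl : ∀ {c : ℤ} {l : F}, l ^ N = 1 → l ≠ 1 → 1 - (c : F) * l ≠ 0 := by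
    intro c l hl hl1 e
    refine nonfixed d hl hl1 ?_
    have : l = (c : F)⁻¹ := eq_inv_of_mul_eq_one_left (by linear_combination -e)
    rw [this, inv_pow, d.int_pow]
  have hQ : (Q : F) + Q' = -1 := by
    refine mul_right_cancel₀ (mul_ne_zero hl0 hl0') ?_
    linear_combination -e1
  have hPs : (P : F) + P' = 1 := by
    refine mul_right_cancel₀ (mul_ne_zero (hcl hγ.1 hl (c := c)) (hcl hγ'.1 hl' (c := c'))) ?_
    linear_combination -e2
  rcases hPQ with h0 | ⟨hP2, hQ1⟩ <;> rcases hPQ' with h0' | ⟨hP2', hQ1'⟩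
  · exact one_ne_zero (show (1 : F) = 0 by linear_combination -hPs + h0 + h0')
  · exact one_ne_zero (show (1 : F) = 0 by linear_combination -2 * hPs + 2 * h0 + hP2')
  · exact one_ne_zero (show (1 : F) = 0 by linear_combination -2 * hPs + 2 * h0' + hP2)
  · exact one_ne_zero (show (1 : F) = 0 by linear_combination -hQ + hQ1 + hQ1')

end Config

end CfsgLib.AppendixC
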