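import Cfsg.Prelude.Def_Transfer
import Cfsg.Agent.S1472

/-!
From the group theoretic data of the last section of the odd order theorem to Appendix C:
a fixed-point-free abelian group of order `(p ^ q - 1) / (p - 1)` on an elementary abelian group of
order `p ^ q` gives field coordinates, and a field configuration with `q < p` is impossible.
-/

set_option autoImplicit false
set_option linter.unusedSectionVars false

namespace CfsgLib.AppendixC

variable {G : Type*} [Group G] [Finite G]

/-- An irreducible commutative group of linear maps gives coordinates in the field of its order. -/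
theorem exists_linear_coordinates {p q : ℕ} [Fact p.Prime] (hq : q ≠ 0) {V : Type*} [AddCommGroup V]
    [Module (ZMod p) V] [Finite V] (hV : Nat.card V = p ^ q) {Γ : Type*}
    (θ : Γ → V →ₗ[ZMod p] V) (hθ : ∀ u v x, θ u (θ v x) = θ v (θ u x))
    (hirr : ∀ S : Submodule (ZMod p) V, (∀ u, ∀ x ∈ S, θ u x ∈ S) → S ≠ ⊥ → S = ⊤)
    (e₀ : V) (he₀ : e₀ ≠ 0) :
    ∃ (g : V → GaloisField p q) (χ : Γ → GaloisField p q), Function.Bijective g ∧
      (∀ x y, g (x + y) = g x + g y) ∧ g e₀ = 1 ∧ ∀ u x, g (θ u x) = χ u * g x := by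
  classical
  let R : Subalgebra (ZMod p) (Module.End (ZMod p) V) := Algebra.adjoin (ZMod p) (Set.range θ)
  have hcomm : ∀ a ∈ R, ∀ b ∈ R, Commute a b := by
    intro a ha b hb
    refine Algebra.commute_of_mem_adjoin_of_forall_mem_commute hb ?_
    rintro _ ⟨v, rfl⟩
    refine (Algebra.commute_of_mem_adjoin_of_forall_mem_commute ha ?_).symm
    rintro _ ⟨u, rfl⟩
    exact LinearMap.ext fun x => hθ v u x
  have hθR : ∀ u, θ u ∈ R := fun u => Algebra.subset_adjoin ⟨u, rfl⟩
  let : CommRing R := { (inferInstance : Ring R) with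
    mul_comm := fun a b => Subtype.ext (hcomm a a.2 b b.2).eq }
  let ev : R →ₗ[ZMod p] V :=
    { toFun := fun a => (a : Module.End (ZMod p) V) e₀
      map_add' := fun _ _ => rfl
      map_smul' := fun _ _ => rfl }
  have hker : ∀ a : R, ∀ x, x ≠ 0 → (a : Module.End (ZMod p) V) x = 0 → a = 0 := by
    intro a x hx h
    refine Subtype.ext (LinearMap.ker_eq_top.1 (hirr _ (fun u y hy => ?_) ?_))
    · rw [LinearMap.mem_ker] at hy ⊢
      show ((a : Module.End (ZMod p) V) * θ u) y = 0
      rw [(hcomm a a.2 _ (hθR u)).eq, Module.End.mul_apply, hy, map_zero]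
    · exact (Submodule.ne_bot_iff _).2 ⟨x, LinearMap.mem_ker.2 h, hx⟩
  have hev : Function.Bijective ev := by
    refine ⟨(injective_iff_map_eq_zero ev).2 fun a ha => hker a e₀ he₀ ha,
      LinearMap.range_eq_top.1 (hirr _ ?_ ?_)⟩
    · rintro u _ ⟨a, rfl⟩
      exact ⟨⟨θ u, hθR u⟩ * a, rfl⟩
    · exact (Submodule.ne_bot_iff _).2 ⟨e₀, ⟨1, rfl⟩, he₀⟩
  have : Finite R := Finite.of_injective ev hev.1
  have : Nontrivial R := ⟨⟨0, 1, fun h => he₀ ((congrArg ev h).symm.trans (map_zero ev))⟩⟩
  have : NoZeroDivisors R := ⟨fun {a b} hab => or_iff_not_imp_right.2 fun hb =>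
    hker a (ev b) (fun e => hb (hev.1 (e.trans (map_zero ev).symm)))
      (show ev (a * b) = 0 by rw [hab, map_zero])⟩
  have : IsDomain R := NoZeroDivisors.to_isDomain R
  let : Field R := (Finite.isField_of_domain R).toField
  have : Fintype R := Fintype.ofFinite R
  have : Fintype (GaloisField p q) := Fintype.ofFinite _
  have hcard : Fintype.card R = Fintype.card (GaloisField p q) := by
    rw [← Nat.card_eq_fintype_card, ← Nat.card_eq_fintype_card, Nat.card_eq_of_bijective ev hev,
      hV, GaloisField.card p q hq]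
  let e : R ≃+* GaloisField p q := FiniteField.ringEquivOfCardEq hcard
  let φ : V ≃ₗ[ZMod p] R := (LinearEquiv.ofBijective ev hev).symm
  have hφ : ∀ (a : R) (v : V), φ ((a : Module.End (ZMod p) V) v) = a * φ v := by
    intro a v
    refine hev.1 ?_
    show (LinearEquiv.ofBijective ev hev) (φ _) = _
    rw [LinearEquiv.apply_symm_apply]
    show _ = (a : Module.End (ZMod p) V) ((LinearEquiv.ofBijective ev hev) (φ v))
    rw [LinearEquiv.apply_symm_apply]
  have hone : φ e₀ = 1 := hev.1 ((LinearEquiv.ofBijective ev hev).apply_symm_apply e₀)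
  refine ⟨fun x => e (φ x), fun u => e ⟨θ u, hθR u⟩, e.bijective.comp φ.bijective,
    fun x y => by simp only [map_add], by simp only [hone, map_one], fun u x => ?_⟩
  simp only [← map_mul, ← hφ]

/-- Field coordinates for `P ⋊ U`, with the prime field at a given line `W`. -/
theorem exists_field_coordinates {p q : ℕ} (hp : p.Prime) (hq : q.Prime) (P U W : Subgroup G)
    (hP : Cfsg.IsElementaryAbelian p P) (hcard : Nat.card P = p ^ q)
    (hUP : U ≤ Subgroup.normalizer (P : Set G)) (hUc : IsMulCommutative U)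
    (hU : Nat.card U * (p - 1) = p ^ q - 1)
    (hfpf : ∀ u ∈ U, u ≠ 1 → ∀ x ∈ P, u * x = x * u → x = 1)
    (hW : W ≤ P) (hWcard : Nat.card W = p) :
    ∃ (F : Type) (_ : Field F) (_ : Fintype F) (f : G → F) (ψ : G → F),
      Fintype.card F = p ^ q ∧ Set.BijOn f (P : Set G) Set.univ ∧
      (∀ x ∈ P, ∀ x' ∈ P, f (x * x') = f x + f x') ∧
      (∀ u ∈ U, ψ u ≠ 0 ∧ ∀ x ∈ P, f (u * x * u⁻¹) = ψ u * f x) ∧
      (∀ u ∈ U, ∀ u' ∈ U, ψ (u * u') = ψ u * ψ u') ∧ Set.InjOn ψ (U : Set G) ∧
      (∀ x ∈ P, x ∈ W ↔ f x ^ p = f x) := by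
  classical
  have := Fact.mk hp
  let : CommGroup P := { (inferInstance : Group P) with mul_comm := hP.1.is_comm.comm }
  have : Module (ZMod p) (Additive P) := AddCommGroup.zmodModule fun a => by
    apply Additive.toMul.injective
    exact Subtype.ext (hP.2 a.toMul a.toMul.2)
  have hconj : ∀ u ∈ U, ∀ x ∈ P, u * x * u⁻¹ ∈ P := fun u hu x hx =>
    (Subgroup.mem_normalizer_iff.1 (hUP hu) x).1 hx
  let act : U → (Additive P →+ Additive P) := fun u =>
    { toFun := fun x => Additive.ofMul ⟨u * (x.toMul : G) * (u : G)⁻¹, hconj u u.2 _ x.toMul.2⟩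
      map_zero' := Additive.toMul.injective (Subtype.ext (by simp))
      map_add' := fun x y => Additive.toMul.injective (Subtype.ext (by simp [mul_assoc])) }
  let θ : U → (Additive P →ₗ[ZMod p] Additive P) := fun u => (act u).toZModLinearMap p
  have hθ : ∀ (u : U) (x : Additive P),
      (((θ u) x).toMul : G) = u * (x.toMul : G) * (u : G)⁻¹ := fun u x => rfl
  have θ_mul : ∀ u v : U, θ (u * v) = θ u * θ v := fun u v => LinearMap.ext fun x =>
    Additive.toMul.injective (Subtype.ext (by
      rw [Module.End.mul_apply, hθ, hθ, hθ]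
      simp [mul_assoc]))
  have θ_one : θ 1 = 1 := LinearMap.ext fun x =>
    Additive.toMul.injective (Subtype.ext (by rw [hθ]; simp))
  have hfix : ∀ (u : U) (x : Additive P), θ u x = x → x ≠ 0 → u = 1 := by
    intro u x h hx
    by_contra hu
    refine hx (Additive.toMul.injective (Subtype.ext ?_))
    refine hfpf u u.2 (fun e => hu (Subtype.ext e)) _ x.toMul.2 ?_
    have := hθ u x
    rw [h] at this
    exact (eq_mul_inv_iff_mul_eq.1 this).symm
  -- `U` is irreducible
  have hirr : ∀ S : Submodule (ZMod p) (Additive P), (∀ u, ∀ x ∈ S, θ u x ∈ S) → S ≠ ⊥ → S = ⊤ := by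
    intro S hS hne
    by_contra htop
    obtain ⟨x, hxS, hx⟩ := S.ne_bot_iff.1 hne
    have hle : Nat.card U < Nat.card S := by
      have hinj : Function.Injective (fun u : U => (⟨θ u x, hS u x hxS⟩ : S)) := by
        intro u v h
        have h' : θ u x = θ v x := congrArg Subtype.val h
        have := hfix (v⁻¹ * u) x (by
          rw [θ_mul, Module.End.mul_apply, h', ← Module.End.mul_apply, ← θ_mul, inv_mul_cancel,
            θ_one, Module.End.one_apply]) hx
        exact (inv_mul_eq_one.1 this).symm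
      refine lt_of_le_of_ne (Nat.card_le_card_of_injective _ hinj) fun e => ?_
      obtain ⟨u, hu⟩ := ((Nat.bijective_iff_injective_and_card _).2 ⟨hinj, e⟩).2 0
      have h0 : θ u x = 0 := congrArg Subtype.val hu
      refine hx ?_
      have := congrArg (θ u⁻¹) h0
      rwa [← Module.End.mul_apply, ← θ_mul, inv_mul_cancel, θ_one, Module.End.one_apply,
        map_zero] at this
    obtain ⟨k, -, hk⟩ : ∃ k ≤ q, Nat.card S = p ^ k := by
      refine (Nat.dvd_prime_pow hp).1 ?_
      rw [← hcard]
      exact AddSubgroup.card_addSubgroup_dvd_card S.toAddSubgroup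
    have hkq : Nat.card S * p ≤ p ^ q := by
      have hlt : Nat.card S < p ^ q := by
        rw [← hcard]
        refine lt_of_le_of_ne (Nat.card_le_card_of_injective _ S.subtype_injective) fun e => htop ?_
        have := ((Nat.bijective_iff_injective_and_card S.subtype).2 ⟨S.subtype_injective, e⟩).2
        rw [← Submodule.range_subtype S]
        exact LinearMap.range_eq_top.2 this
      rw [hk] at hlt ⊢
      rw [← pow_succ]
      exact Nat.pow_le_pow_right hp.pos ((Nat.pow_lt_pow_iff_right hp.one_lt).1 hlt)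
    have hpos : 0 < Nat.card U := Nat.card_pos
    obtain ⟨r, rfl⟩ : ∃ r, p = r + 2 := ⟨p - 2, by have := hp.two_le; omega⟩
    rw [show r + 2 - 1 = r + 1 by omega] at hU
    have h1 : 1 ≤ (r + 2) ^ q := Nat.one_le_pow _ _ (by omega)
    have h2 : (r + 2) ^ q = Nat.card U * (r + 1) + 1 := by omega
    rw [h2] at hkq
    nlinarith
  obtain ⟨⟨z, hz⟩, hz1⟩ := Subgroup.ne_bot_iff_exists_ne_one.1
    (show W ≠ ⊥ by rintro rfl; rw [Subgroup.card_bot] at hWcard; exact hp.ne_one hWcard.symm)
  let e₀ : Additive P := Additive.ofMul ⟨z, hW hz⟩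
  have he₀ : e₀ ≠ 0 := fun h => hz1 (Subtype.ext (congrArg (fun a : Additive P => (a.toMul : G)) h))
  have hθc : ∀ u v x, θ u (θ v x) = θ v (θ u x) := fun u v x => by
    rw [← Module.End.mul_apply, ← θ_mul, show u * v = v * u from hUc.is_comm.comm u v, θ_mul,
      Module.End.mul_apply]
  obtain ⟨g, χ, hg, gadd, gone, gθ⟩ :=
    exists_linear_coordinates (V := Additive P) hq.ne_zero hcard θ hθc hirr e₀ he₀
  let F := GaloisField p q
  have : Fintype F := Fintype.ofFinite F
  have hF : Fintype.card F = p ^ q := by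
    rw [← Nat.card_eq_fintype_card, GaloisField.card p q hq.ne_zero]
  let f : G → F := fun x => if h : x ∈ P then g (Additive.ofMul ⟨x, h⟩) else 0
  let ψ : G → F := fun u => if h : u ∈ U then χ ⟨u, h⟩ else 0
  have hf : ∀ x (h : x ∈ P), f x = g (Additive.ofMul ⟨x, h⟩) := fun x h => dif_pos h
  have hψ : ∀ u (h : u ∈ U), ψ u = χ ⟨u, h⟩ := fun u h => dif_pos h
  have hχ : ∀ u, χ u = g (θ u e₀) := fun u => by rw [gθ, gone, mul_one]
  have hψne : ∀ u (h : u ∈ U), ψ u ≠ 0 := by
    intro u h h0
    rw [hψ u h] at h0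
    have g0 : g 0 = 0 := by
      have := gadd 0 0
      rwa [add_zero, left_eq_add] at this
    have h1 : θ ⟨u, h⟩ e₀ = 0 := hg.1 (by rw [gθ, h0, zero_mul, g0])
    refine he₀ ?_
    rw [← Module.End.one_apply (R := ZMod p) e₀, ← θ_one, ← inv_mul_cancel (⟨u, h⟩ : U), θ_mul,
      Module.End.mul_apply, h1, map_zero]
  refine ⟨F, inferInstance, inferInstance, f, ψ, hF, ⟨fun x _ => Set.mem_univ _, ?_, ?_⟩, ?_, ?_,
    ?_, ?_, ?_⟩
  · intro x hx y hy h
    rw [hf x hx, hf y hy] at h
    exact congrArg Subtype.val (Additive.ofMul.injective (hg.1 h))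
  · intro a _
    obtain ⟨v, hv⟩ := hg.2 a
    refine ⟨((Additive.toMul v : P) : G), (Additive.toMul v : P).2, ?_⟩
    rw [hf _ (Additive.toMul v : P).2, ← hv]
    rfl
  · intro x hx y hy
    rw [hf x hx, hf y hy, hf _ (mul_mem hx hy), ← gadd]
    rfl
  · intro u hu
    refine ⟨hψne u hu, fun x hx => ?_⟩
    rw [hψ u hu, hf x hx, hf _ (hconj u hu x hx), ← gθ]
    rfl
  · intro u hu v hv
    rw [hψ u hu, hψ v hv, hψ _ (mul_mem hu hv), hχ (⟨u * v, _⟩ : U),
      show (⟨u * v, mul_mem hu hv⟩ : U) = ⟨u, hu⟩ * ⟨v, hv⟩ from rfl, θ_mul, Module.End.mul_apply,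
      gθ, gθ, gone, mul_one]
  · intro u hu v hv h
    rw [hψ u hu, hψ v hv, hχ, hχ] at h
    have h' : θ ⟨u, hu⟩ e₀ = θ ⟨v, hv⟩ e₀ := hg.1 h
    have := hfix (⟨v, hv⟩⁻¹ * ⟨u, hu⟩) e₀ (by
      rw [θ_mul, Module.End.mul_apply, h', ← Module.End.mul_apply, ← θ_mul, inv_mul_cancel, θ_one,
        Module.End.one_apply]) he₀
    exact congrArg Subtype.val (inv_mul_eq_one.1 this).symm
  · intro x hx
    have hchar : CharP F p := charP_of_card_eq_prime_pow hF
    let gh : Additive P →+ F := AddMonoidHom.mk' g gadd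
    have hline : ∀ n : ℕ, f (z ^ n) = n := by
      intro n
      rw [hf _ (pow_mem (hW hz) n)]
      have : Additive.ofMul (⟨z ^ n, pow_mem (hW hz) n⟩ : P) = n • e₀ :=
        Additive.toMul.injective (Subtype.ext (by simp [e₀]))
      rw [this, show g (n • e₀) = gh (n • e₀) from rfl, map_nsmul, show gh e₀ = 1 from gone,
        nsmul_one]
    have hzW : Subgroup.zpowers z = W := by
      refine Subgroup.eq_of_le_of_card_ge (Subgroup.zpowers_le.2 hz) ?_
      rw [hWcard, Nat.card_zpowers, orderOf_eq_prime (p := p) (hP.2 z (hW hz))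
        fun e => hz1 (Subtype.ext e)]
    constructor
    · intro hxW
      rw [← hzW, ← mem_powers_iff_mem_zpowers] at hxW
      obtain ⟨n, rfl⟩ := hxW
      rw [hline, ← map_natCast (ZMod.castHom (dvd_refl p) F) n, ← map_pow, ZMod.pow_card]
    · intro h
      obtain ⟨c, hc⟩ : ∃ c : ℕ, (c : F) = f x := by
        let S : Finset F := (Finset.range p).image fun n : ℕ => (n : F)
        let T : Finset F := Finset.univ.filter fun y => y ^ p = y
        have hS : S.card = p := by
          rw [Finset.card_image_of_injOn, Finset.card_range]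
          intro a ha b hb hab
          exact CharP.natCast_injOn_Iio F p (by simpa using ha) (by simpa using hb) hab
        have hne : (Polynomial.X ^ p - Polynomial.X : Polynomial F) ≠ 0 :=
          FiniteField.X_pow_card_sub_X_ne_zero F hp.one_lt
        have hT : T.card ≤ p := by
          calc T.card ≤ (Polynomial.X ^ p - Polynomial.X : Polynomial F).roots.toFinset.card := by
                refine Finset.card_le_card fun y hy => ?_
                have := (Finset.mem_filter.1 hy).2
                simp [Multiset.mem_toFinset, Polynomial.mem_roots hne, this]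
            _ ≤ _ := Multiset.toFinset_card_le _
            _ ≤ (Polynomial.X ^ p - Polynomial.X : Polynomial F).natDegree :=
                Polynomial.card_roots' _
            _ = p := FiniteField.X_pow_card_sub_X_natDegree_eq F hp.one_lt
        have hST : S ⊆ T := by
          intro y hy
          obtain ⟨n, -, rfl⟩ := Finset.mem_image.1 hy
          refine Finset.mem_filter.2 ⟨Finset.mem_univ _, ?_⟩
          rw [← map_natCast (ZMod.castHom (dvd_refl p) F) n, ← map_pow, ZMod.pow_card]
        have hxT : f x ∈ T := Finset.mem_filter.2 ⟨Finset.mem_univ _, h⟩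
        rw [← Finset.eq_of_subset_of_card_le hST (by omega)] at hxT
        obtain ⟨n, -, hn⟩ := Finset.mem_image.1 hxT
        exact ⟨n, hn⟩
      rw [← hline c, hf _ (pow_mem (hW hz) c), hf x hx] at hc
      have := congrArg Subtype.val (Additive.ofMul.injective (hg.1 hc))
      rw [← show z ^ c = x from this]
      exact pow_mem hz c

/-- A field configuration with `q < p` is impossible. -/
theorem final_config_false {p q : ℕ} (hp : p.Prime) (hq : q.Prime) (hlt : q < p)
    (P U W Q : Subgroup G) (hP : Cfsg.IsElementaryAbelian p P) (hcard : Nat.card P = p ^ q)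
    (hUP : U ≤ Subgroup.normalizer (P : Set G)) (hUc : IsMulCommutative U)
    (hU : Nat.card U * (p - 1) = p ^ q - 1)
    (hA : Nat.Coprime ((p ^ q - 1) / (p - 1)) (p - 1))
    (hfpf : ∀ u ∈ U, u ≠ 1 → ∀ x ∈ P, u * x = x * u → x = 1)
    (hW : W ≤ P) (hWcard : Nat.card W = p) (hQ : IsMulCommutative Q)
    (hQp : (Nat.card Q).Coprime p) (hWQ : W ≤ Subgroup.normalizer (Q : Set G))
    (y : G) (hy : y ∈ Q)
    (hWU : W.map (MulAut.conj y).toMonoidHom ≤ Subgroup.normalizer (U : Set G)) : False := by
  have := Fact.mk hp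
  have := Fact.mk hq
  obtain ⟨F, hF, hF', f, ψ, hcF, hf, hfadd, hψ, hψmul, hψinj, hfW⟩ :=
    exists_field_coordinates hp hq P U W hP hcard hUP hUc hU hfpf hW hWcard
  exact absurd
    (Cfsg.Agent.S1472.result p q hA F hcF P U Q f ψ hf hfadd hUP hψ hψmul hψinj hU hQ hQp
      (fun x hx h => hWQ ((hfW x hx).2 h)) y hy
      (fun x hx h => hWU ⟨x, (hfW x hx).2 h, rfl⟩))
    (not_le.2 hlt)

end CfsgLib.AppendixC
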