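import Cfsg.Agent.Lib.AppendixC.Config

/-!
Consequences of loops and of their absence, Appendix C.
-/

set_option autoImplicit false
set_option linter.unusedSectionVars false

namespace CfsgLib.AppendixC

namespace Config

variable {p N : ℕ} {F : Type*} [Field F] {G : Type*} [Group G] {C : Config p N F G}
  (d : FieldData p N F)

/-- What has to be shown: `s` commutes with `t s t⁻¹`. -/
abbrev Goal (C : Config p N F G) : Prop := Commute (C.ι 1) (C.π 1 1)

/-- The mirror configuration `(s, t) ↦ (s⁻¹, t⁻¹)`. -/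
def mirror (C : Config p N F G) : Config p N F G where
  ι v := C.ι (-v)
  ι_add a b := by rw [neg_add, C.ι_add]
  ι_inj a b h := neg_injective (C.ι_inj h)
  t := C.t⁻¹
  Q := C.Q
  comm := C.comm
  coprime := C.coprime
  norm_s := by rw [C.ι_neg]; exact inv_mem C.norm_s
  t_pow := by rw [inv_pow, C.t_pow, inv_one]
  ts_mem i := by
    have := C.ts_mem (-i)
    simpa using this
  Φ j := C.Φ (-j)
  Φ_mem j := C.Φ_mem (-j)
  Φ_zero := by simpa using C.Φ_zero
  Φ_comp i j x hx := by rw [C.Φ_comp _ _ _ hx, neg_add]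
  Φ_mul j := C.Φ_mul (-j)
  Φ_period x hx := by
    conv_lhs => rw [← C.Φ_period x hx]
    rw [C.Φ_comp _ _ _ hx, neg_add_cancel, C.Φ_zero x hx]
  equiv x hx := by
    obtain ⟨u, hu⟩ := C.equiv x hx
    refine ⟨u, fun j v => ?_⟩
    have := hu (-j) (-v)
    simpa [mul_neg] using this

theorem mirror_π (j : ℤ) (v : F) : C.mirror.π j v = C.π (-j) (-v) := by
  simp [π, mirror]

theorem goal_of_mirror (h : Goal C.mirror) : Goal C := by
  unfold Goal at h ⊢
  rw [mirror_π] at h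
  simp only [mirror, C.π_neg, C.ι_neg, Commute.inv_left_iff, Commute.inv_right_iff] at h
  have h2 := (h.map (MulAut.conj C.t).toMonoidHom)
  simp only [MulEquiv.coe_toMonoidHom, MulAut.conj_apply] at h2
  have e1 : C.t * C.ι 1 * C.t⁻¹ = C.π 1 1 := by rw [π]; group
  have e2 : C.t * C.π (-1) 1 * C.t⁻¹ = C.ι 1 := by rw [π]; group
  rw [e1, e2] at h2
  exact h2.symm

theorem Arr.add {a a' b b' w : F} (h : C.Arr a a' w w) (h' : C.Arr b b' w w) :
    C.Arr (a + b) (a' + b') w w := h.trans h'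

theorem Arr.zero (w : F) : C.Arr 0 0 w w := by simp [Arr, C.ι_zero]

theorem Arr.right_eq_zero {a' w : F} (h : C.Arr 0 a' w w) : a' = 0 := by
  unfold Arr at h
  rw [C.ι_zero, one_mul, left_eq_mul] at h
  exact C.ι_inj (h.trans C.ι_zero.symm)

/-- Being free of loops at the point `1`. -/
abbrev NoLoop (C : Config p N F G) : Prop := ∀ a a' : F, C.Arr a a' 1 1 → a = 0

theorem Gamma.commutator (hno : NoLoop C) {c c' : ℤ} {l l' E E' D D' : F}
    (h : C.Gamma c l E D) (h' : C.Gamma c' l' E' D') (hd : (2 : F) ≠ 0) :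
    E * (1 - l') = E' * (1 - l) ∧ D * (1 - c' * l') = D' * (1 - c * l) := by
  have h1 := (h.comp h').2 1
  have h2 := (h'.comp h).2 1
  rw [mul_comm c' c, mul_comm l' l] at h2
  have h3 := h1.trans h2.symm
  simp only [Int.cast_one, one_mul] at h3
  have ha := hno _ _ h3
  have hb := Arr.right_eq_zero (ha ▸ h3)
  constructor
  · refine mul_left_cancel₀ hd ?_
    linear_combination ha + hb
  · refine mul_left_cancel₀ hd ?_
    linear_combination hb - ha

include d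

theorem nonfixed {l : F} (hl : l ^ N = 1) (h1 : l ≠ 1) : l ^ p ≠ l :=
  fun h => h1 (d.eq_one_of_pow hl h)

/-- If the frames `0` and `1` meet or normalize each other, `s` commutes with `t s t⁻¹`. -/
theorem goal_of_normalizes {l : F} (hl : l ^ N = 1) (hl1 : l ≠ 1)
    (h : ∀ a : F, ∃ a', C.ι a * C.π 1 1 = C.π 1 1 * C.ι a') : Goal C := by
  -- conjugation by `π (-1) (-1)` preserves `P`
  have hm : C.π (-1) (-1) = C.ι (-2) * C.π 1 1 := by
    have h := C.hexagon_one d 1 0 (-1)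
    rw [C.π_zero_frame] at h
    norm_num at h
    exact h.symm
  have h' : ∀ a : F, ∃ a', C.ι a * C.π (-1) (-1) = C.π (-1) (-1) * C.ι a' := by
    intro a
    obtain ⟨a', ha'⟩ := h a
    refine ⟨a', ?_⟩
    rw [hm, ← mul_assoc, (C.ι_comm a (-2)).eq, mul_assoc, ha', mul_assoc]
  obtain ⟨a', ha'⟩ := h' (0 + 0)
  obtain ⟨a1, h1⟩ := h 1
  -- the same in the frame `1`
  have h2 : ∀ b : F, ∃ b', C.π 1 b * C.ι (-1) = C.ι (-1) * C.π 1 b' := by
    intro b
    obtain ⟨b', hb'⟩ := h' b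
    refine ⟨b', ?_⟩
    have e := congrArg (fun g => C.t ^ (1 : ℤ) * g * C.t ^ (-1 : ℤ)) hb'
    have e0 : C.t ^ (1 : ℤ) * C.π (-1) (-1) * C.t ^ (-1 : ℤ) = C.ι (-1) := by
      rw [C.π_shift, neg_add_cancel, C.π_zero_frame]
    have e1 : ∀ v, C.t ^ (1 : ℤ) * C.ι v * C.t ^ (-1 : ℤ) = C.π 1 v := fun v => rfl
    rw [show ∀ x y : G, C.t ^ (1 : ℤ) * (x * y) * C.t ^ (-1 : ℤ) =
        (C.t ^ (1 : ℤ) * x * C.t ^ (-1 : ℤ)) * (C.t ^ (1 : ℤ) * y * C.t ^ (-1 : ℤ)) from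
        fun x y => by group,
      show ∀ x y : G, C.t ^ (1 : ℤ) * (x * y) * C.t ^ (-1 : ℤ) =
        (C.t ^ (1 : ℤ) * x * C.t ^ (-1 : ℤ)) * (C.t ^ (1 : ℤ) * y * C.t ^ (-1 : ℤ)) from
        fun x y => by group, e0, e1, e1] at e
    exact e
  obtain ⟨b1, hb1⟩ := h2 1
  rw [C.ι_neg, eq_inv_mul_iff_mul_eq, ← mul_assoc, mul_inv_eq_iff_eq_mul] at hb1
  -- `hb1 : s * s₁ = π 1 b1 * s`
  have hkey : C.ι (a1 - 1) = C.π 1 (b1 - 1) := by
    rw [sub_eq_add_neg a1, C.ι_add, sub_eq_neg_add b1, C.π_add, C.π_neg, C.ι_neg,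
      eq_inv_mul_iff_mul_eq, ← mul_assoc, ← h1, hb1]
    group
  by_cases ha : a1 - 1 = 0
  · unfold Goal
    rw [sub_eq_zero.1 ha] at h1
    exact h1
  · let B : AddSubgroup F :=
      { carrier := {a | ∃ b, C.ι a = C.π 1 b}
        zero_mem' := ⟨0, by rw [C.ι_zero, C.π_zero]⟩
        add_mem' := fun {a b} ⟨x, hx⟩ ⟨y, hy⟩ => ⟨x + y, by rw [C.ι_add, C.π_add, hx, hy]⟩
        neg_mem' := fun {a} ⟨x, hx⟩ => ⟨-x, by rw [C.ι_neg, C.π_neg, hx]⟩ }
    obtain ⟨b, hb⟩ : (1 : F) ∈ B := by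
      refine d.span B l (a1 - 1) (nonfixed d hl hl1) ⟨_, hkey⟩ ha ?_ 1
      rintro a ⟨b, hb⟩
      obtain ⟨u, hu⟩ := C.equiv l hl
      refine ⟨C.Φ 1 l * b, ?_⟩
      have := congrArg (fun g => u * g * u⁻¹) hb
      simp only [π] at this ⊢
      rw [hu 1 b] at this
      rw [← this]
      simpa [C.Φ_zero _ hl] using (hu 0 a).symm
    unfold Goal
    rw [hb]
    exact C.π_comm _ _ _

/-- A loop, moved around by two families with the same class, gives normalization. -/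
theorem noLoop (hg : ¬ Goal C) {c : ℤ} {l l' E E' D D' : F}
    (h : C.Gamma c l E D) (h' : C.Gamma c l' E' D') (hne : l ≠ l') : NoLoop C := by
  intro a0 a0' h0
  by_contra ha0
  have hl0 := d.ne_zero h'.1
  have hμ : (l / l') ^ N = 1 := by rw [div_pow, h.1, h'.1, div_one]
  have hμ1 : l / l' ≠ 1 := fun e => hne (by rwa [div_eq_one_iff_eq hl0] at e)
  let B : AddSubgroup F :=
    { carrier := {a | ∃ a', C.Arr a a' 1 1}
      zero_mem' := ⟨0, Arr.zero 1⟩
      add_mem' := fun {a b} ⟨x, hx⟩ ⟨y, hy⟩ => ⟨x + y, hx.add hy⟩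
      neg_mem' := fun {a} ⟨x, hx⟩ => ⟨-x, hx.symm⟩ }
  have hall : ∀ a, a ∈ B := by
    refine d.span B (l / l') a0 (nonfixed d hμ hμ1) ⟨a0', h0⟩ ha0 ?_
    rintro a ⟨a', ha⟩
    have g := h.2 1
    have g' := h'.2 1
    simp only [Int.cast_one, one_mul] at g g'
    have m1 := ((g'.symm.trans ha).trans g').scale hμ
    have hΦ : C.Φ 1 (l / l') * ((c : F) * C.Φ 1 l') = (c : F) * C.Φ 1 l := by
      rw [mul_left_comm, ← C.Φ_mul 1 _ _ hμ h'.1, div_mul_cancel₀ _ hl0]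
    rw [hΦ] at m1
    have m2 := (g.trans m1).trans g.symm
    exact ⟨_, by convert m2 using 1 <;> ring⟩
  exact hg (goal_of_normalizes d hμ hμ1 hall)

/-- A commutation between `P` and the frame `1` spreads to all of `P`. -/
theorem goal_of_commute {η : F} (hη : η ^ N = 1) (hη1 : η ≠ 1)
    (h : Commute (C.ι η) (C.π 1 1)) : Goal C := by
  let V : AddSubgroup F :=
    { carrier := {a | Commute (C.ι a) (C.π 1 1)}
      zero_mem' := by simp [C.ι_zero]
      add_mem' := fun {a b} ha hb => by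
        show Commute _ _
        rw [C.ι_add]; exact Commute.mul_left ha hb
      neg_mem' := fun {a} ha => by
        show Commute _ _
        rw [C.ι_neg]; exact Commute.inv_left ha }
  have hV : ∀ a, a ∈ V ↔ Commute (C.ι a) (C.π 1 1) := fun a => Iff.rfl
  have hint : ∀ (n : ℤ) a, a ∈ V → (n : F) * a ∈ V := fun n a ha => by
    rw [← zsmul_eq_mul]; exact zsmul_mem ha n
  have hdiv : ∀ (n : ℤ) a, (n : F) ≠ 0 → (n : F) * a ∈ V → a ∈ V := by
    intro n a hn ha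
    obtain ⟨m, hm⟩ := d.int_of_pow (n : F)⁻¹ (by rw [inv_pow, d.int_pow])
    have := hint m _ ha
    rwa [hm, ← mul_assoc, inv_mul_cancel₀ hn, one_mul] at this
  have hall : ∀ a ∈ V, ∀ j : ℤ, Commute (C.ι a) (C.π j 1) := by
    intro a ha j
    have hj := C.hexagon_one d 0 1 j
    simp only [sub_zero, Int.cast_one] at hj
    rw [← hj, C.π_int, C.π_zero_frame]
    exact (Commute.zpow_right ((hV a).1 ha) _).mul_right (C.ι_comm _ _)
  -- from `a = k * ξ`: `Φ (-j) ξ⁻¹ ∈ V`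
  have htw : ∀ ξ : F, ξ ^ N = 1 → ξ ∈ V → C.Φ (-1) ξ⁻¹ ∈ V := by
    intro ξ hξ hm
    have h1 := (hall ξ hm (-1)).map (MulAut.conj C.t).toMonoidHom
    simp only [MulEquiv.coe_toMonoidHom, MulAut.conj_apply] at h1
    have e1 : C.t * C.π (-1) 1 * C.t⁻¹ = C.π 0 1 := by rw [π, π]; group
    have e2 : C.t * C.ι ξ * C.t⁻¹ = C.π 1 ξ := by rw [π]; group
    rw [e1, e2] at h1
    obtain ⟨u, hu⟩ := C.equiv (C.Φ (-1) ξ⁻¹) (C.Φ_mem _ _ (by rw [inv_pow, hξ, inv_one]))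
    have h2 := h1.map (MulAut.conj u).toMonoidHom
    simp only [MulEquiv.coe_toMonoidHom, MulAut.conj_apply] at h2
    rw [π, π, hu, hu, C.Φ_comp _ _ _ (by rw [inv_pow, hξ, inv_one]),
      C.Φ_comp _ _ _ (by rw [inv_pow, hξ, inv_one])] at h2
    rw [add_neg_cancel, C.Φ_zero _ (by rw [inv_pow, hξ, inv_one]),
      inv_mul_cancel₀ (d.ne_zero hξ), zero_add, mul_one] at h2
    show Commute _ _
    have h3 := h2.symm
    simpa [π] using h3
  have hxi : ∀ ξ : F, ξ ^ N = 1 → ξ ∈ V → ∀ i : ℕ, C.Φ (-2 * i) ξ ∈ V := by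
    intro ξ hξ hm i
    induction i with
    | zero => simpa [C.Φ_zero _ hξ] using hm
    | succ i ih =>
      have hi := C.Φ_mem (-2 * i) _ hξ
      have h1 := htw _ (C.Φ_mem _ _ (by rw [inv_pow, hi, inv_one])) (htw _ hi ih)
      rw [C.Φ_inv d (-1) hi, inv_inv, C.Φ_comp _ _ _ hi, C.Φ_comp _ _ _ hξ] at h1
      convert h1 using 2
      push_cast; ring
  have hinv : ∀ a ∈ V, a ≠ 0 → a⁻¹ ∈ V := by
    intro a ha ha0
    obtain ⟨k, ξ, hk, hξ, rfl⟩ := d.exists_decomp ha0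
    have hm := hdiv k ξ hk ha
    -- `Φ 1 ξ ∈ V`, as `2` generates `ℤ/p`
    obtain ⟨r, hr⟩ := d.prime.odd_of_ne_two d.odd
    have h1 := hxi ξ hξ hm r
    have e : C.Φ (-2 * r) ξ = C.Φ 1 ξ := by
      conv_lhs => rw [← C.Φ_period ξ hξ]
      rw [C.Φ_comp _ _ _ hξ]
      congr 1
      rw [hr]; push_cast; ring
    rw [e] at h1
    have h2 := htw _ (C.Φ_mem _ _ hξ) h1
    rw [← C.Φ_inv d 1 hξ, C.Φ_comp _ _ _ (by rw [inv_pow, hξ, inv_one]), neg_add_cancel,
      C.Φ_zero _ (by rw [inv_pow, hξ, inv_one])] at h2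
    obtain ⟨m, hm'⟩ := d.int_of_pow (k : F)⁻¹ (by rw [inv_pow, d.int_pow])
    rw [mul_inv, ← hm']
    exact hint m _ h2
  have hsq : ∀ b ∈ V, η * η * b ∈ V := by
    intro b hb
    have hη0 := d.ne_zero hη
    by_cases hb0 : b = 0
    · simp [hb0, zero_mem]
    by_cases he : η * b = 1
    · rw [mul_assoc, he, mul_one]; exact h
    have hi : b⁻¹ - η ∈ V := sub_mem (hinv b hb hb0) h
    have hne : b⁻¹ - η ≠ 0 := by
      intro e
      rw [sub_eq_zero] at e
      exact he (by rw [← e, inv_mul_cancel₀ hb0])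
    have hne' : (1 : F) - η * b ≠ 0 := sub_ne_zero.2 (Ne.symm he)
    have h2 : η⁻¹ + (b⁻¹ - η)⁻¹ ∈ V := add_mem (hinv η h hη0) (hinv _ hi hne)
    have e : η⁻¹ + (b⁻¹ - η)⁻¹ = (η * (1 - η * b))⁻¹ := by
      rw [show b⁻¹ - η = (1 - η * b) / b by field_simp]
      field_simp
      ring
    rw [e] at h2
    have h3 := hinv _ h2 (inv_ne_zero (mul_ne_zero hη0 hne'))
    rw [inv_inv, mul_sub, mul_one, ← mul_assoc] at h3
    simpa using sub_mem h h3
  have hηη : (η * η) ^ N = 1 := by rw [mul_pow, hη, one_mul]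
  have h2 : η * η ≠ 1 := by
    intro e
    have := (pow_gcd_eq_one (m := 2) (n := N) (a := η)).2 ⟨by rw [pow_two, e], hη⟩
    rw [(Nat.prime_two.coprime_iff_not_dvd.2 d.odd_N).gcd_eq_one, pow_one] at this
    exact hη1 this
  exact d.span V _ η (nonfixed d hηη h2) h (d.ne_zero hη) hsq 1

end Config

end CfsgLib.AppendixC
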